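import Mathlib
import Cfsg.Prelude.Def_Solvable

/-!
Frobenius complements from fixed-point-free actions.
-/

namespace CfsgLib.FrobCompl

open Cfsg
open scoped Pointwise

set_option linter.style.haveILetI false

universe u v

/-- Transfer of a Frobenius complement along an isomorphism. -/
theorem isFrobeniusComplement_map {L L' : Type*} [Group L] [Group L'] (e : L ≃* L') {C : Subgroup L}
    (hC : IsFrobeniusComplement C) : IsFrobeniusComplement (C.map e.toMonoidHom) := by
  obtain ⟨h1, h2, h3⟩ := hC
  refine ⟨fun h => h1 ?_, fun h => h2 ?_, fun g hg => ?_⟩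
  · exact (Subgroup.map_eq_bot_iff_of_injective C e.injective).mp h
  · apply Subgroup.map_injective (f := e.toMonoidHom) e.injective
    rw [h, Subgroup.map_top_of_surjective _ e.surjective]
  · obtain ⟨g, rfl⟩ := e.surjective g
    have hg' : g ∉ C := fun h => hg (Subgroup.mem_map_of_mem _ h)
    rw [eq_bot_iff]
    intro x hxx
    obtain ⟨⟨a, ha, rfl⟩, hx⟩ := Subgroup.mem_inf.mp hxx
    rw [Subgroup.mem_pointwise_smul_iff_inv_smul_mem] at hx
    obtain ⟨b, hb, hbe⟩ := hx
    have hb' : b = g⁻¹ * a * g := by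
      apply e.injective
      simpa [MulAut.smul_def] using hbe
    have hax : a ∈ C ⊓ MulAut.conj g • C :=
      ⟨ha, Subgroup.mem_pointwise_smul_iff_inv_smul_mem.mpr (by simpa [MulAut.smul_def, hb'] using hb)⟩
    rw [h3 g hg', Subgroup.mem_bot] at hax
    simp [hax]

/-- The complement in a semidirect product of a fixed-point-free action is a Frobenius complement. -/
theorem isFrobeniusComplement_range_inr {V : Type u} {H : Type v} [Group V] [Group H] [Nontrivial V]
    [Nontrivial H] (φ : H →* MulAut V) (hfpf : ∀ h : H, h ≠ 1 → ∀ w : V, φ h w = w → w = 1) :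
    IsFrobeniusComplement (SemidirectProduct.inr : H →* V ⋊[φ] H).range := by
  have hmem : ∀ x : V ⋊[φ] H, x ∈ (SemidirectProduct.inr : H →* V ⋊[φ] H).range ↔ x.left = 1 := by
    intro x
    exact ⟨by rintro ⟨h, rfl⟩; rfl, fun h => ⟨x.right, SemidirectProduct.ext h.symm rfl⟩⟩
  refine ⟨fun h => ?_, fun h => ?_, fun g hg => ?_⟩
  · obtain ⟨a, ha⟩ := exists_ne (1 : H)
    have h1 : SemidirectProduct.inr a ∈ (SemidirectProduct.inr : H →* V ⋊[φ] H).range := ⟨a, rfl⟩
    rw [h, Subgroup.mem_bot] at h1
    exact ha (SemidirectProduct.inr_injective (h1.trans (map_one _).symm))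
  · obtain ⟨a, ha⟩ := exists_ne (1 : V)
    exact ha ((hmem (SemidirectProduct.inl a)).mp (h ▸ Subgroup.mem_top _))
  · rw [eq_bot_iff]
    intro x hxx
    obtain ⟨hx, hx'⟩ := Subgroup.mem_inf.mp hxx
    rw [Subgroup.mem_pointwise_smul_iff_inv_smul_mem, hmem] at hx'
    rw [hmem] at hx
    have hgl : g.left ≠ 1 := fun h => hg ((hmem g).mpr h)
    have h1 : φ x.right g.left = g.left := by
      simp [MulAut.smul_def, hx] at hx'
      exact ((φ g.right).symm.injective (inv_mul_eq_one.mp hx')).symm
    rw [Subgroup.mem_bot]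
    refine SemidirectProduct.ext hx ?_
    by_contra hr
    exact hgl (hfpf x.right hr g.left h1)

/-- A fixed-point-free action of a finite group on a finite additive group makes it a Frobenius
complement in a group of type level zero. -/
theorem exists_isFrobeniusComplement {H : Type u} [Group H] [Finite H] [Nontrivial H]
    {V : Type v} [AddGroup V] [Finite V] [Nontrivial V] (f : H → V → V)
    (h1 : ∀ w, f 1 w = w) (hmul : ∀ g h w, f (g * h) w = f g (f h w))
    (hadd : ∀ h w w', f h (w + w') = f h w + f h w')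
    (hfpf : ∀ h : H, h ≠ 1 → ∀ w : V, f h w = w → w = 0) :
    ∃ (L : Type) (_ : Group L) (_ : Finite L) (C : Subgroup L),
      IsFrobeniusComplement C ∧ Nonempty (H ≃* C) := by
  let φ : H →* MulAut (Multiplicative V) :=
    { toFun := fun h =>
        { toFun := fun w => Multiplicative.ofAdd (f h w.toAdd)
          invFun := fun w => Multiplicative.ofAdd (f h⁻¹ w.toAdd)
          left_inv := fun w => by simp [← hmul, h1]
          right_inv := fun w => by simp [← hmul, h1]
          map_mul' := fun w w' => by simp [hadd] }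
      map_one' := by ext w; exact congrArg Multiplicative.ofAdd (h1 _)
      map_mul' := fun g h => by ext w; exact congrArg Multiplicative.ofAdd (hmul g h _) }
  haveI : Finite (Multiplicative V ⋊[φ] H) :=
    Finite.of_injective (fun x => (x.left, x.right)) fun x y h =>
      SemidirectProduct.ext (congrArg Prod.fst h) (congrArg Prod.snd h)
  have hC := isFrobeniusComplement_range_inr φ fun h hh w hw => by
    apply Multiplicative.toAdd.injective
    exact hfpf h hh w.toAdd (congrArg Multiplicative.toAdd hw)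
  let e : (Multiplicative V ⋊[φ] H) ≃* Shrink.{0} (Multiplicative V ⋊[φ] H) := (Shrink.mulEquiv).symm
  refine ⟨Shrink.{0} (Multiplicative V ⋊[φ] H), inferInstance, Finite.of_equiv _ e.toEquiv, _,
    isFrobeniusComplement_map e hC, ⟨?_⟩⟩
  exact (MonoidHom.ofInjective SemidirectProduct.inr_injective).trans
    (Subgroup.equivMapOfInjective _ e.toMonoidHom e.injective)

/-- A nontrivial finite subgroup of the units of a division ring acts without fixed points on a
finite group. -/
theorem exists_isFrobeniusComplement_of_units {D : Type v} [DivisionRing D] {H : Type u} [Group H]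
    [Finite H] [Nontrivial H] (i : H →* Dˣ) (hi : Function.Injective i) :
    ∃ (L : Type) (_ : Group L) (_ : Finite L) (C : Subgroup L),
      IsFrobeniusComplement C ∧ Nonempty (H ≃* C) := by
  classical
  -- a good prime
  obtain ⟨ℓ, hℓ, hℓord, hℓone⟩ : ∃ ℓ : ℕ, ℓ.Prime ∧ (∀ h : H, h ≠ 1 → ¬ ℓ ∣ orderOf h) ∧
      ∀ r : ℤ, (r : D) = 0 → ¬ (ℓ : ℤ) ∣ r - 1 := by
    obtain ⟨q, hq⟩ := CharP.exists D
    rcases CharP.char_is_prime_or_zero D q with hprime | hzero
    · refine ⟨q, hprime, fun h hh hdvd => ?_, fun r hr hdvd => ?_⟩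
      · haveI := Fact.mk hprime
        set x := h ^ (orderOf h / q) with hx
        have hxq : x ^ q = 1 := by rw [hx, ← pow_mul, Nat.div_mul_cancel hdvd, pow_orderOf_eq_one]
        have h0 : ((i x : Dˣ) : D) ^ q = 1 := by
          rw [← Units.val_pow_eq_pow_val, ← map_pow, hxq, map_one, Units.val_one]
        have h1 : ((i x : Dˣ) : D) - 1 = 0 := by
          have h2 : (((i x : Dˣ) : D) - 1) ^ q = 0 := by
            haveI : CharP D q := hq
            rw [sub_pow_char_of_commute q (Commute.one_right _), h0, one_pow, sub_self]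
          exact pow_eq_zero_iff hprime.ne_zero |>.mp h2
        have hx1 : x = 1 := hi (Units.ext (by rw [map_one, Units.val_one]; exact sub_eq_zero.mp h1))
        have ho := orderOf_pos h
        have hpos : 0 < orderOf h / q := Nat.div_pos (Nat.le_of_dvd ho hdvd) hprime.pos
        exact pow_ne_one_of_lt_orderOf hpos.ne' (Nat.div_lt_self ho hprime.one_lt) hx1
      · rw [CharP.intCast_eq_zero_iff D q] at hr
        have := dvd_sub hr hdvd
        rw [sub_sub_cancel] at this
        have := Int.eq_one_of_dvd_one (Int.natCast_nonneg q) this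
        exact hprime.ne_one (by exact_mod_cast this)
    · subst hzero
      obtain ⟨ℓ, hle, hℓ⟩ := Nat.exists_infinite_primes (Nat.card H + 1)
      refine ⟨ℓ, hℓ, fun h _ hdvd => ?_, fun r hr hdvd => ?_⟩
      · have h1 := Nat.le_of_dvd (orderOf_pos h) hdvd
        have h2 := Nat.le_of_dvd Nat.card_pos (orderOf_dvd_natCard h)
        omega
      · haveI : CharP D 0 := hq
        rw [CharP.intCast_eq_zero_iff D 0, Int.natCast_zero, zero_dvd_iff] at hr
        subst hr
        have := Int.eq_one_of_dvd_one (Int.natCast_nonneg ℓ) ((Int.dvd_neg).mp (by simpa using hdvd))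
        exact hℓ.ne_one (by exact_mod_cast this)
  haveI : NeZero ℓ := ⟨hℓ.ne_zero⟩
  set A : Submodule ℤ D := Submodule.span ℤ (Set.range fun h : H => ((i h : Dˣ) : D)) with hA
  have hAmul : ∀ (h : H) (a : D), a ∈ A → (i h : D) * a ∈ A := by
    intro h a ha
    induction ha using Submodule.span_induction with
    | mem x hx =>
      obtain ⟨g, rfl⟩ := hx
      exact Submodule.subset_span ⟨h * g, by simp⟩
    | zero => simp
    | add x y _ _ hx hy => rw [mul_add]; exact A.add_mem hx hy
    | smul c x _ hx => rw [mul_smul_comm]; exact A.smul_mem c hx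
  let B : AddSubgroup A := (zsmulAddGroupHom (α := A) (ℓ : ℤ)).range
  have hB : ∀ a : A, a ∈ B ↔ ∃ b : A, (ℓ : ℤ) • b = a := fun a => Iff.rfl
  let m : H → A →+ A := fun h =>
    { toFun := fun a => ⟨(i h : D) * a, hAmul h a a.2⟩
      map_zero' := by ext; simp
      map_add' := fun a b => by ext; simp [mul_add] }
  have hmB : ∀ h : H, B ≤ B.comap (m h) := by
    intro h a ha
    obtain ⟨b, rfl⟩ := (hB a).mp ha
    exact (hB _).mpr ⟨m h b, by rw [map_zsmul]⟩
  let f : H → (A ⧸ B) → (A ⧸ B) := fun h => QuotientAddGroup.map B B (m h) (hmB h)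
  haveI : Nontrivial (A ⧸ B) := by
    rw [← not_subsingleton_iff_nontrivial]
    intro hs
    have hle : A ≤ Ideal.span {(ℓ : ℤ)} • A := by
      intro a ha
      obtain ⟨b, hb⟩ := (hB ⟨a, ha⟩).mp ((QuotientAddGroup.eq_zero_iff _).mp (Subsingleton.elim _ _))
      rw [show a = (ℓ : ℤ) • (b : D) from (congrArg Subtype.val hb).symm]
      exact Submodule.smul_mem_smul (Ideal.mem_span_singleton_self _) b.2
    obtain ⟨r, hr, hr0⟩ := Submodule.exists_sub_one_mem_and_smul_eq_zero_of_fg_of_le_smul _ A
      (Submodule.fg_span (Set.finite_range _)) hle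
    rw [Ideal.mem_span_singleton] at hr
    refine hℓone r ?_ hr
    have := hr0 1 (Submodule.subset_span ⟨1, by simp⟩)
    simpa using this
  haveI : Finite (A ⧸ B) := by
    haveI := Fintype.ofFinite H
    let g : (H → Fin ℓ) → (A ⧸ B) := fun c =>
      QuotientAddGroup.mk (∑ h, ((c h : ℕ) : ℤ) • (⟨(i h : D), Submodule.subset_span ⟨h, rfl⟩⟩ : A))
    refine Finite.of_surjective g fun q => ?_
    obtain ⟨a, rfl⟩ := QuotientAddGroup.mk_surjective q
    obtain ⟨c, hc⟩ := (Submodule.mem_span_range_iff_exists_fun ℤ).mp a.2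
    refine ⟨fun h => ⟨(c h % ℓ).toNat, ?_⟩, ?_⟩
    · have := Int.emod_lt_of_pos (c h) (show (0 : ℤ) < ℓ by exact_mod_cast hℓ.pos)
      have := Int.emod_nonneg (c h) (show (ℓ : ℤ) ≠ 0 by exact_mod_cast hℓ.ne_zero)
      omega
    · rw [QuotientAddGroup.eq]
      refine (hB _).mpr ⟨∑ h, (c h / ℓ) • (⟨(i h : D), Submodule.subset_span ⟨h, rfl⟩⟩ : A), ?_⟩
      have hnn : ∀ h, ((c h % ℓ).toNat : ℤ) = c h % ℓ := fun h =>
        Int.toNat_of_nonneg (Int.emod_nonneg _ (by exact_mod_cast hℓ.ne_zero))
      simp only [hnn]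
      rw [eq_neg_add_iff_add_eq, Finset.smul_sum, ← Finset.sum_add_distrib]
      apply Subtype.ext
      rw [← hc, Submodule.coe_sum]
      refine Finset.sum_congr rfl fun h _ => ?_
      rw [smul_smul, ← add_smul, Submodule.coe_smul, Int.emod_add_mul_ediv]
  refine exists_isFrobeniusComplement f (fun w => ?_) (fun g h w => ?_) (fun h w w' => map_add _ _ _)
    fun h hh w hw => ?_
  · obtain ⟨a, rfl⟩ := QuotientAddGroup.mk_surjective w
    exact congrArg QuotientAddGroup.mk (Subtype.ext (by simp [m]))
  · obtain ⟨a, rfl⟩ := QuotientAddGroup.mk_surjective w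
    exact congrArg QuotientAddGroup.mk (Subtype.ext (by simp [m, mul_assoc]))
  · obtain ⟨a, rfl⟩ := QuotientAddGroup.mk_surjective w
    have key : ∀ k : ℕ, QuotientAddGroup.mk ((m h)^[k] a) = (QuotientAddGroup.mk a : A ⧸ B) := by
      intro k
      induction k with
      | zero => rfl
      | succ k ih =>
        rw [Function.iterate_succ_apply']
        calc (QuotientAddGroup.mk (m h ((m h)^[k] a)) : A ⧸ B) = f h (QuotientAddGroup.mk ((m h)^[k] a)) := rfl
          _ = f h (QuotientAddGroup.mk a) := by rw [ih]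
          _ = _ := hw
    have hiter : ∀ k : ℕ, (((m h)^[k] a : A) : D) = (i h : D) ^ k * a := by
      intro k
      induction k with
      | zero => simp
      | succ k ih =>
        rw [Function.iterate_succ_apply']
        show (i h : D) * _ = _
        rw [ih, ← mul_assoc, pow_succ']
    set n := orderOf h
    have hsum : ∑ k ∈ Finset.range n, (m h)^[k] a = 0 := by
      apply Subtype.ext
      rw [Submodule.coe_sum, Finset.sum_congr rfl fun k _ => hiter k, ← Finset.sum_mul]
      have hne : (i h : D) ≠ 1 := fun e => hh (hi (Units.ext (by rw [map_one, Units.val_one]; exact e)))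
      have hpow : (i h : D) ^ n = 1 := by
        rw [← Units.val_pow_eq_pow_val, ← map_pow, pow_orderOf_eq_one, map_one, Units.val_one]
      have := geom_sum_mul (i h : D) n
      rw [hpow, sub_self, mul_eq_zero] at this
      rw [this.resolve_right (sub_ne_zero.mpr hne), zero_mul]
      rfl
    have hn : n • (QuotientAddGroup.mk a : A ⧸ B) = 0 := by
      have := congrArg (QuotientAddGroup.mk' B) hsum
      rw [map_sum, map_zero] at this
      rw [← this]
      simp only [QuotientAddGroup.mk'_apply, key, Finset.sum_const, Finset.card_range]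
    have hℓa : ℓ • (QuotientAddGroup.mk a : A ⧸ B) = 0 := by
      rw [← QuotientAddGroup.mk_nsmul, QuotientAddGroup.eq_zero_iff]
      exact (hB _).mpr ⟨a, natCast_zsmul _ _⟩
    have hcop : Nat.Coprime ℓ n := hℓ.coprime_iff_not_dvd.mpr (hℓord h hh)
    have := (gcd_nsmul_eq_zero (M := A ⧸ B)).mpr ⟨hℓa, hn⟩
    rwa [Nat.Coprime.gcd_eq_one hcop, one_nsmul] at this

end CfsgLib.FrobCompl
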