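import Mathlib
import Cfsg.Prelude.Def_Solvable

/-!
Counting in a finite group with a Frobenius complement: the kernel set, and comparability of two
complements up to conjugacy.
-/

namespace CfsgLib.FrobCompl

open Cfsg
open scoped Pointwise

set_option autoImplicit false
set_option linter.style.haveILetI false

universe u

variable {G : Type*} [Group G]

theorem mem_conj_smul {H : Subgroup G} {g x : G} :
    x ∈ MulAut.conj g • H ↔ g⁻¹ * x * g ∈ H := by
  rw [Subgroup.mem_pointwise_smul_iff_inv_smul_mem, ← map_inv, MulAut.smul_def, MulAut.conj_apply,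
    inv_inv]

theorem eq_one_of_conj {g x : G} (h : g⁻¹ * x * g = 1) : x = 1 := by
  have := congrArg (fun u => g * u) h
  simp only [← mul_assoc, mul_inv_cancel, one_mul, mul_one] at this
  exact mul_eq_right.mp this

theorem eq_one_of_conj' {g x : G} (h : g * x * g⁻¹ = 1) : x = 1 :=
  conj_eq_one_iff.mp h

variable {H : Subgroup G}

/-- If a nonidentity element of a complement is carried into it by conjugation, so is the
conjugator. -/
theorem mem_of_conj_mem (hH : IsFrobeniusComplement H) {x g : G} (hx : x ≠ 1) (hxH : x ∈ H)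
    (hg : g⁻¹ * x * g ∈ H) : g ∈ H := by
  by_contra hgn
  have h : x ∈ H ⊓ MulAut.conj g • H := ⟨hxH, mem_conj_smul.mpr hg⟩
  rw [hH.2.2 g hgn, Subgroup.mem_bot] at h
  exact hx h

theorem inv_mul_mem_of_mem (hH : IsFrobeniusComplement H) {x a b : G} (hx : x ≠ 1)
    (ha : a⁻¹ * x * a ∈ H) (hb : b⁻¹ * x * b ∈ H) : a⁻¹ * b ∈ H := by
  exact mem_of_conj_mem hH (x := a⁻¹ * x * a) (fun h => hx (eq_one_of_conj h)) ha
    (by simpa [mul_assoc] using hb)

/-- The nonidentity elements having a conjugate in `H`. -/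
def conjCover (H : Subgroup G) : Set G :=
  {x | x ≠ 1 ∧ ∃ g : G, g⁻¹ * x * g ∈ H}

theorem frobeniusKernel_eq_compl (H : Subgroup G) : frobeniusKernel H = (conjCover H)ᶜ := by
  ext x
  simp only [frobeniusKernel, conjCover, Set.mem_ofPred_eq, Set.mem_compl_iff, mem_conj_smul]
  by_cases h : x = 1 <;> simp [h]

variable [Finite G]

theorem ncard_conjCover (hH : IsFrobeniusComplement H) :
    (conjCover H).ncard + H.index = Nat.card G := by
  classical
  have hcard : Nat.card ((G ⧸ H) × {h : H // h ≠ 1}) = H.index * (Nat.card H - 1) := by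
    rw [Nat.card_prod, Subgroup.index]
    congr 1
    haveI := Fintype.ofFinite H
    simp [Nat.card_eq_fintype_card, Fintype.card_subtype_compl]
  let f : (G ⧸ H) × {h : H // h ≠ 1} → conjCover H := fun z =>
    ⟨z.1.out * ((z.2.1 : H) : G) * z.1.out⁻¹, by
      exact ⟨fun h => z.2.2 (Subtype.ext (eq_one_of_conj' h)), z.1.out, by simp [mul_assoc]⟩⟩
  have hf : Function.Bijective f := by
    constructor
    · rintro ⟨q, h, hh⟩ ⟨q', h', hh'⟩ he
      have he' : q.out * (h : G) * q.out⁻¹ = q'.out * (h' : G) * q'.out⁻¹ :=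
        congrArg Subtype.val he
      have hq : q = q' := by
        rw [← QuotientGroup.out_eq' q, ← QuotientGroup.out_eq' q', QuotientGroup.eq]
        refine inv_mul_mem_of_mem hH (x := q.out * (h : G) * q.out⁻¹) (f (q, ⟨h, hh⟩)).2.1
          (by simp [mul_assoc]) ?_
        rw [he']
        simp [mul_assoc]
      subst hq
      refine Prod.ext rfl (Subtype.ext (Subtype.ext ?_))
      simpa using congrArg (fun u => q.out⁻¹ * u * q.out) he'
    · rintro ⟨x, hx, g, hg⟩
      obtain ⟨k, hk⟩ := QuotientGroup.mk_out_eq_mul H g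
      set q : G ⧸ H := (g : G ⧸ H)
      have hm : q.out⁻¹ * x * q.out ∈ H := by
        rw [hk]
        have := H.mul_mem (H.mul_mem (H.inv_mem k.2) hg) k.2
        simpa [mul_assoc] using this
      refine ⟨(q, ⟨⟨_, hm⟩, fun h => hx ?_⟩), Subtype.ext (by simp [f, mul_assoc])⟩
      have h' := congrArg (fun u : H => q.out * (u : G) * q.out⁻¹) h
      simpa [mul_assoc] using h'
  have h1 : (conjCover H).ncard = H.index * (Nat.card H - 1) := by
    rw [← Nat.card_coe_set_eq, ← hcard, Nat.card_congr (Equiv.ofBijective f hf)]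
  rw [h1, ← H.index_mul_card]
  obtain ⟨m, hm⟩ := Nat.exists_eq_succ_of_ne_zero (Nat.card_pos (α := H)).ne'
  rw [hm, Nat.succ_sub_one, Nat.mul_succ]

theorem card_frobeniusKernel (hH : IsFrobeniusComplement H) :
    Nat.card (frobeniusKernel H) = H.index := by
  have := ncard_conjCover hH
  rw [frobeniusKernel_eq_compl, Nat.card_coe_set_eq, Set.ncard_compl]
  omega

theorem index_mod_card (hH : IsFrobeniusComplement H) :
    H.index % Nat.card H = 1 % Nat.card H := by
  classical
  haveI := Fintype.ofFinite G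
  haveI := Fintype.ofFinite (G ⧸ H)
  -- `H` acts semiregularly on the cosets other than its own
  let e : G ⧸ H := ((1 : G) : G ⧸ H)
  have he : ∀ h : H, (h : G) • e = e := fun h => by
    rw [MulAction.Quotient.smul_mk, QuotientGroup.eq]
    simp
  let S := {q : G ⧸ H // q ≠ e}
  letI : MulAction H S :=
    { smul := fun h q => ⟨(h : G) • q.1, fun hq => q.2 (MulAction.injective (h : G) (hq.trans (he h).symm))⟩
      one_smul := fun q => Subtype.ext (one_smul G q.1)
      mul_smul := fun a b q => Subtype.ext (mul_smul (a : G) (b : G) q.1) }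
  have hfree : ∀ q : S, MulAction.stabilizer H q = ⊥ := by
    rintro ⟨q, hq⟩
    rw [eq_bot_iff]
    intro h hh
    rw [Subgroup.mem_bot]
    by_contra hne
    obtain ⟨g, rfl⟩ := QuotientGroup.mk_surjective q
    have hh' : (h : G) • (g : G ⧸ H) = g :=
      congrArg Subtype.val (MulAction.mem_stabilizer_iff.mp hh)
    rw [MulAction.Quotient.smul_mk, QuotientGroup.eq] at hh'
    refine hq ?_
    show (g : G ⧸ H) = ((1 : G) : G ⧸ H)
    rw [QuotientGroup.eq, mul_one]
    refine H.inv_mem (mem_of_conj_mem hH (x := (h : G)⁻¹) ?_ (H.inv_mem h.2)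
      (by simpa [mul_assoc] using hh'))
    simpa using fun h1 => hne (Subtype.ext h1)
  have hdvd : Nat.card H ∣ Nat.card S := by
    haveI := Fintype.ofFinite (MulAction.orbitRel.Quotient H S)
    rw [Nat.card_congr (MulAction.selfEquivSigmaOrbits H S), Nat.card_sigma]
    refine Finset.dvd_sum fun ω _ => ?_
    have h1 := MulAction.index_stabilizer H ω.out
    rw [hfree, Subgroup.index_bot] at h1
    rw [h1, ← Nat.card_coe_set_eq]
  have hS : H.index = Nat.card S + 1 := by
    have h0 : 0 < Fintype.card (G ⧸ H) := Fintype.card_pos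
    rw [Subgroup.index, Nat.card_eq_fintype_card, Nat.card_eq_fintype_card,
      Fintype.card_subtype_compl, Fintype.card_subtype_eq]
    omega
  obtain ⟨m, hm⟩ := hdvd
  rw [hS, hm, Nat.mul_add_mod]

theorem two_mul_index_le (hH : IsFrobeniusComplement H) : 2 * H.index ≤ Nat.card G := by
  rw [← H.index_mul_card, mul_comm]
  exact Nat.mul_le_mul le_rfl (H.one_lt_card_iff_ne_bot.mpr hH.1)

theorem comparable_aux : ∀ (n : ℕ) {G : Type u} [Group G] [Finite G], Nat.card G = n →
    ∀ A B : Subgroup G, IsFrobeniusComplement A → IsFrobeniusComplement B →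
    ∃ g : G, MulAut.conj g • A ≤ B ∨ B ≤ MulAut.conj g • A := by
  intro n
  induction n using Nat.strong_induction_on with
  | _ n IH =>
  intro G _ _ hn A B hA hB
  subst hn
  by_contra hcon
  push Not at hcon
  have h1 := ncard_conjCover hA
  have h2 := ncard_conjCover hB
  -- the covers meet
  have hne : (conjCover A ∩ conjCover B).Nonempty := by
    rw [← Set.ncard_pos]
    have h3 := Set.ncard_union_add_ncard_inter (conjCover A) (conjCover B)
    have h4 : (conjCover A ∪ conjCover B).ncard + 1 ≤ Nat.card G := by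
      have h5 : (conjCover A ∪ conjCover B) ⊆ {(1 : G)}ᶜ := by
        rintro x (hx | hx) <;> exact hx.1
      have h6 := Set.ncard_le_ncard h5
      rw [Set.ncard_compl, Set.ncard_singleton] at h6
      have : 0 < Nat.card G := Nat.card_pos
      omega
    have := two_mul_index_le hA
    have := two_mul_index_le hB
    omega
  obtain ⟨x, ⟨hx1, a, ha⟩, -, b, hb⟩ := hne
  set g := b⁻¹ * a with hg
  set C := MulAut.conj g • A ⊓ B with hC
  have hmem : ∀ y : G, y ∈ C ↔ g⁻¹ * y * g ∈ A ∧ y ∈ B := fun y => by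
    rw [hC, Subgroup.mem_inf, mem_conj_smul]
  have hCne : C ≠ ⊥ := by
    intro h
    have hyC : b⁻¹ * x * b ∈ C := (hmem _).mpr ⟨by
      simpa [hg, mul_assoc] using ha, hb⟩
    rw [h, Subgroup.mem_bot] at hyC
    exact hx1 (eq_one_of_conj hyC)
  have hCG : IsFrobeniusComplement C := by
    refine ⟨hCne, fun h => hB.2.1 (top_le_iff.mp (h ▸ inf_le_right)), fun u hu => ?_⟩
    rw [eq_bot_iff]
    intro y hy
    rw [Subgroup.mem_inf, mem_conj_smul] at hy
    rw [Subgroup.mem_bot]
    by_contra hy1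
    obtain ⟨hy2, hy3⟩ := (hmem _).mp hy.1
    obtain ⟨hy4, hy5⟩ := (hmem _).mp hy.2
    refine hu ((hmem u).mpr ⟨?_, mem_of_conj_mem hB hy1 hy3 hy5⟩)
    refine mem_of_conj_mem hA (x := g⁻¹ * y * g) ?_ hy2 (by simpa [mul_assoc] using hy4)
    exact fun h => hy1 (eq_one_of_conj h)
  have h3 := ncard_conjCover hCG
  have hsub : conjCover A ∩ conjCover B ⊆ conjCover C := by
    rintro y ⟨⟨hy1, c, hc⟩, -, d, hd⟩
    refine ⟨hy1, ?_⟩
    set e := d⁻¹ * c with he
    set D := MulAut.conj e • A ⊓ B with hD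
    have hmemD : ∀ y : G, y ∈ D ↔ e⁻¹ * y * e ∈ A ∧ y ∈ B := fun y => by
      rw [hD, Subgroup.mem_inf, mem_conj_smul]
    have hzD : d⁻¹ * y * d ∈ D := (hmemD _).mpr ⟨by simpa [he, mul_assoc] using hc, hd⟩
    have hz1 : d⁻¹ * y * d ≠ 1 :=
      fun h => hy1 (eq_one_of_conj h)
    have hsubB : ∀ {E : Subgroup G} {f : G}, E ≤ B → E ≠ ⊥ →
        E = MulAut.conj f • A ⊓ B → ¬ B ≤ E ∧ IsFrobeniusComplement (E.subgroupOf B) := by
      intro E f hEB hEne hE
      have hnot : ¬ B ≤ E := fun h => (hcon f).2 (h.trans (hE ▸ inf_le_left))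
      refine ⟨hnot, ⟨?_, ?_, fun u hu => ?_⟩⟩
      · rw [Ne, Subgroup.subgroupOf_eq_bot, disjoint_iff, inf_eq_left.mpr hEB]
        exact hEne
      · rw [Ne, Subgroup.subgroupOf_eq_top]
        exact hnot
      · rw [eq_bot_iff]
        intro v hv
        rw [Subgroup.mem_inf, mem_conj_smul, Subgroup.mem_subgroupOf, Subgroup.mem_subgroupOf] at hv
        rw [Subgroup.mem_bot]
        by_contra hv1
        obtain ⟨hv2, hv3⟩ := hv
        rw [hE, Subgroup.mem_inf, mem_conj_smul] at hv2 hv3
        refine hu ?_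
        rw [Subgroup.mem_subgroupOf, hE, Subgroup.mem_inf, mem_conj_smul]
        refine ⟨mem_of_conj_mem hA (x := f⁻¹ * (v : G) * f) ?_ hv2.1
          (by simpa [mul_assoc] using hv3.1), u.2⟩
        exact fun h => hv1 (Subtype.ext (eq_one_of_conj h))
    have hDne : D ≠ ⊥ := fun h => hz1 (by simpa [h] using hzD)
    obtain ⟨hnC, hCB⟩ := hsubB inf_le_right hCne hC
    obtain ⟨-, hDB⟩ := hsubB inf_le_right hDne hD
    have hlt : Nat.card B < Nat.card G :=
      lt_of_le_of_ne B.card_le_card_group (fun h => hB.2.1 (Subgroup.eq_top_of_card_eq B h))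
    obtain ⟨k, hk⟩ := IH _ hlt (G := B) rfl _ _ hCB hDB
    -- some nonidentity element of `D` is conjugate in `B` into `C`
    have hex : ∃ w : B, (w : G) ∈ D ∧ w ≠ 1 ∧ ((k : G))⁻¹ * (w : G) * (k : G) ∈ C := by
      rcases hk with hk | hk
      · obtain ⟨⟨w0, hw0⟩, hw1⟩ := Subgroup.ne_bot_iff_exists_ne_one.mp hCB.1
        replace hw1 : w0 ≠ 1 := fun h => hw1 (Subtype.ext h)
        have hmw : k * w0 * k⁻¹ ∈ MulAut.conj k • C.subgroupOf B := by
          rw [mem_conj_smul, show k⁻¹ * (k * w0 * k⁻¹) * k = w0 by group]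
          exact hw0
        refine ⟨k * w0 * k⁻¹, hk hmw, fun h => hw1 (eq_one_of_conj' h), ?_⟩
        rw [Subgroup.coe_mul, Subgroup.coe_mul, Subgroup.coe_inv,
          show (k : G)⁻¹ * ((k : G) * (w0 : G) * (k : G)⁻¹) * (k : G) = (w0 : G) by group]
        exact Subgroup.mem_subgroupOf.mp hw0
      · have hmz : (⟨d⁻¹ * y * d, hd⟩ : B) ∈ MulAut.conj k • C.subgroupOf B :=
          hk (show (⟨d⁻¹ * y * d, hd⟩ : B) ∈ D.subgroupOf B from hzD)
        rw [mem_conj_smul, Subgroup.mem_subgroupOf] at hmz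
        exact ⟨⟨_, hd⟩, hzD, fun h => hz1 (congrArg Subtype.val h), by simpa using hmz⟩
    obtain ⟨w, hwD, hw1, hwC⟩ := hex
    -- so the conjugates of `A` giving `C` and `D` agree
    have hA1 : ((k : G) * g)⁻¹ * (w : G) * ((k : G) * g) ∈ A := by
      simpa [mul_assoc] using ((hmem _).mp hwC).1
    have hw1' : (w : G) ≠ 1 := fun h => hw1 (Subtype.ext h)
    have hA2 : e⁻¹ * ((k : G) * g) ∈ A :=
      inv_mul_mem_of_mem hA hw1' ((hmemD _).mp hwD).1 hA1
    refine ⟨d * (k : G), (hmem _).mpr ⟨?_, ?_⟩⟩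
    · have h7 := A.mul_mem (A.mul_mem (A.inv_mem hA2) ((hmemD _).mp hzD).1) hA2
      simpa [mul_assoc] using h7
    · simpa [mul_assoc] using B.mul_mem (B.mul_mem (B.inv_mem k.2) hd) k.2
  have h5 := Set.ncard_union_add_ncard_inter (conjCover A) (conjCover B)
  have h6 := Set.ncard_le_ncard hsub
  have h4 : (conjCover A ∪ conjCover B).ncard + 1 ≤ Nat.card G := by
    have h7 : (conjCover A ∪ conjCover B) ⊆ {(1 : G)}ᶜ := by
      rintro x (hx | hx) <;> exact hx.1
    have h8 := Set.ncard_le_ncard h7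
    rw [Set.ncard_compl, Set.ncard_singleton] at h8
    have : 0 < Nat.card G := Nat.card_pos
    omega
  -- index comparison
  have hlt : ∀ {X Y : Subgroup G}, X < Y → 2 * Y.index ≤ X.index := by
    intro X Y hXY
    rw [← Subgroup.relIndex_mul_index hXY.le]
    refine Nat.mul_le_mul ?_ le_rfl
    have h9 : X.relIndex Y ≠ 1 := fun h => hXY.not_ge (Subgroup.relIndex_eq_one.mp h)
    have h10 : X.relIndex Y ≠ 0 := Subgroup.index_ne_zero_of_finite
    omega
  have hCB' := hlt (X := C) (lt_of_le_of_ne (inf_le_right : C ≤ B)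
    (fun h => (hcon g).2 (le_of_eq_of_le h.symm inf_le_left)))
  have hCA' := hlt (X := C) (lt_of_le_of_ne (inf_le_left : C ≤ MulAut.conj g • A)
    (fun h => (hcon g).1 (le_of_eq_of_le h.symm inf_le_right)))
  have hidx : (MulAut.conj g • A).index = A.index :=
    Subgroup.index_map_equiv A (MulAut.conj g)
  rw [hidx] at hCA'
  omega

/-- Two Frobenius complements are comparable up to conjugacy. -/
theorem exists_conj_comparable {G : Type u} [Group G] [Finite G] {A B : Subgroup G}
    (hA : IsFrobeniusComplement A) (hB : IsFrobeniusComplement B) :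
    ∃ g : G, MulAut.conj g • A ≤ B ∨ B ≤ MulAut.conj g • A :=
  comparable_aux _ rfl A B hA hB

/-- With an involution in the complement: the product of two involutions inverted by it. -/
theorem mul_mem_frobeniusKernel {t : G} (hH : IsFrobeniusComplement H) (ht : t ∈ H) (ht1 : t ≠ 1)
    (ht2 : t * t = 1) {x y : G} (hx : x ∈ frobeniusKernel H) (hy : y ∈ frobeniusKernel H) :
    x * y ∈ frobeniusKernel H := by
  classical
  -- `I`: the involutions lying in conjugates of `H`
  let I : Set G := {a | a ∈ conjCover H ∧ a * a = 1}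
  -- translates of involutions outside one's conjugate lie in the kernel
  have key : ∀ a ∈ I, ∀ b ∈ I, ∀ c d : G, c⁻¹ * a * c ∈ H → d⁻¹ * b * d ∈ H →
      a * b ∈ conjCover H → c⁻¹ * d ∈ H := by
    rintro a ⟨⟨ha1, -⟩, ha2⟩ b ⟨⟨hb1, -⟩, hb2⟩ c d hc hd ⟨hab, e, he⟩
    have hai : a⁻¹ = a := inv_eq_of_mul_eq_one_right ha2
    have hbi : b⁻¹ = b := inv_eq_of_mul_eq_one_right hb2
    have hA : e⁻¹ * a * e ∈ H := by
      have h1 : (a * e)⁻¹ * (a * b) * (a * e) ∈ H := by
        have h2 := H.inv_mem he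
        have e1 : (a * e)⁻¹ * (a * b) * (a * e) = (e⁻¹ * (a * b) * e)⁻¹ := by
          simp only [mul_inv_rev, inv_inv, hai, hbi, mul_assoc]
          rw [← mul_assoc a a, ha2, one_mul]
        rwa [e1]
      have h3 := inv_mul_mem_of_mem hH hab he h1
      simpa [mul_assoc] using h3
    have hB : e⁻¹ * b * e ∈ H := by
      have h4 := H.mul_mem (H.inv_mem hA) he
      simpa [mul_assoc] using h4
    have h5 := inv_mul_mem_of_mem hH ha1 hc hA
    have h6 := inv_mul_mem_of_mem hH hb1 hd hB
    simpa [mul_assoc] using H.mul_mem h5 (H.inv_mem h6)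
  have hcardK := card_frobeniusKernel hH
  have hcov : ∀ a : G, a ≠ 1 → ∀ c : G, c⁻¹ * a * c ∈ H → a ∈ conjCover H :=
    fun a ha c hc => ⟨ha, c, hc⟩
  have hconjI : ∀ g : G, g * t * g⁻¹ ∈ I := fun g =>
    ⟨hcov _ (fun h => ht1 (eq_one_of_conj' h)) g
      (by simpa [mul_assoc] using ht), by
      rw [show g * t * g⁻¹ * (g * t * g⁻¹) = g * (t * t) * g⁻¹ by group, ht2]; simp⟩
  -- uniqueness of the involution in each conjugate of `H`
  have huniq : ∀ s : G, s ∈ H → s ≠ 1 → s * s = 1 → s = t := by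
    intro s hs hs1 hs2
    by_contra hst
    have hsI : s ∈ I := ⟨hcov s hs1 1 (by simpa using hs), hs2⟩
    have htI : t ∈ I := ⟨hcov t ht1 1 (by simpa using ht), ht2⟩
    let Q := {q : G ⧸ H // q ≠ ((1 : G) : G ⧸ H)}
    let w : Q × Bool → G := fun z =>
      t * (z.1.1.out * (if z.2 then t else s) * z.1.1.out⁻¹)
    have hmem : ∀ (z : Q × Bool), (if z.2 then t else s) ∈ H ∧ (if z.2 then t else s) ≠ 1 ∧
        (if z.2 then t else s) * (if z.2 then t else s) = 1 := by
      rintro ⟨q, (_ | _)⟩ <;> simp [hs, hs1, hs2, ht, ht1, ht2]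
    have hwK : ∀ z, w z ∈ frobeniusKernel H ∧ w z ≠ 1 := by
      intro z
      obtain ⟨hu, hu1, hu2⟩ := hmem z
      set u := (if z.2 then t else s)
      set q := z.1.1
      have hbI : q.out * u * q.out⁻¹ ∈ I :=
        ⟨hcov _ (fun h => hu1 (eq_one_of_conj' h)) q.out
          (by simpa [mul_assoc] using hu), by
          rw [show q.out * u * q.out⁻¹ * (q.out * u * q.out⁻¹) = q.out * (u * u) * q.out⁻¹ by group,
            hu2]; simp⟩
      have hq : q.out ∉ H := fun h => z.1.2 (by
        rw [← QuotientGroup.out_eq' z.1.1, QuotientGroup.eq, mul_one]; exact H.inv_mem h)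
      refine ⟨?_, fun h => ?_⟩
      · rw [frobeniusKernel_eq_compl]
        intro hc
        have h4 : q.out⁻¹ * (q.out * u * q.out⁻¹) * q.out ∈ H := by simpa [mul_assoc] using hu
        have h5 := key t htI _ hbI 1 q.out (by simpa using ht) h4 hc
        exact hq (by simpa using h5)
      · have h1 : q.out * u * q.out⁻¹ = t := by
          rw [← inv_eq_of_mul_eq_one_right h]; exact inv_eq_of_mul_eq_one_right ht2
        refine hq (mem_of_conj_mem hH ht1 ht ?_)
        rw [← h1]
        simpa [mul_assoc] using hu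
    have hinj : Function.Injective w := by
      rintro ⟨⟨q, hq⟩, i⟩ ⟨⟨q', hq'⟩, j⟩ he
      have he' := mul_left_cancel he
      obtain ⟨hu, hu1, -⟩ := hmem (⟨q, hq⟩, i)
      obtain ⟨hu', -, -⟩ := hmem (⟨q', hq'⟩, j)
      simp only at he' hu hu1 hu'
      have hqq : q = q' := by
        rw [← QuotientGroup.out_eq' q, ← QuotientGroup.out_eq' q', QuotientGroup.eq]
        refine inv_mul_mem_of_mem hH (x := q.out * (if i then t else s) * q.out⁻¹)
          (fun h => hu1 (eq_one_of_conj' h))
          (by simpa [mul_assoc] using hu) ?_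
        rw [he']
        simpa [mul_assoc] using hu'
      subst hqq
      have : (if i then t else s) = (if j then t else s) := mul_left_cancel (mul_right_cancel he')
      cases i <;> cases j <;> simp_all
    have hle : Nat.card (Q × Bool) ≤ (frobeniusKernel H \ {1}).ncard := by
      rw [← Nat.card_coe_set_eq]
      exact Nat.card_le_card_of_injective (fun z => ⟨w z, (hwK z).1, (hwK z).2⟩)
        (fun a b h => hinj (congrArg Subtype.val h))
    rw [Nat.card_prod, Nat.card_eq_fintype_card (α := Bool), Fintype.card_bool,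
      Set.ncard_diff_singleton_of_mem (show (1 : G) ∈ frobeniusKernel H from Or.inl rfl),
      ← Nat.card_coe_set_eq, hcardK] at hle
    haveI := Fintype.ofFinite (G ⧸ H)
    have hQ : Nat.card Q + 1 = H.index := by
      have h0 : 0 < Fintype.card (G ⧸ H) := Fintype.card_pos
      rw [Subgroup.index, Nat.card_eq_fintype_card, Nat.card_eq_fintype_card,
        Fintype.card_subtype_compl, Fintype.card_subtype_eq]
      omega
    have hi : H.index ≠ 1 := fun h => hH.2.1 (Subgroup.index_eq_one.mp h)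
    omega
  -- for each involution `a`, the kernel is exactly `a • I`
  have htrans : ∀ a ∈ I, frobeniusKernel H = (fun b => a * b) '' I := by
    intro a ha
    symm
    refine Set.eq_of_subset_of_ncard_le ?_ ?_
    · rintro _ ⟨b, hb, rfl⟩
      rw [frobeniusKernel_eq_compl]
      intro hab
      obtain ⟨⟨ha1, c, hc⟩, ha2⟩ := ha
      obtain ⟨⟨hb1, d, hd⟩, hb2⟩ := hb
      have hcd := key a ⟨⟨ha1, c, hc⟩, ha2⟩ b ⟨⟨hb1, d, hd⟩, hb2⟩ c d hc hd hab
      have hd' : c⁻¹ * b * c ∈ H := by
        simpa [mul_assoc] using H.mul_mem (H.mul_mem hcd hd) (H.inv_mem hcd)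
      have e1 : ∀ z : G, z ≠ 1 → z * z = 1 → c⁻¹ * z * c ∈ H → c⁻¹ * z * c = t := by
        intro z hz1 hz2 hz3
        refine huniq _ hz3 (fun h => hz1 (eq_one_of_conj h)) ?_
        rw [show c⁻¹ * z * c * (c⁻¹ * z * c) = c⁻¹ * (z * z) * c by group, hz2]; simp
      have : a = b := by
        simpa using congrArg (fun u => c * u * c⁻¹) ((e1 a ha1 ha2 hc).trans (e1 b hb1 hb2 hd').symm)
      exact hab.1 (by subst this; exact ha2)
    · rw [Set.ncard_image_of_injective _ (mul_right_injective a), ← Nat.card_coe_set_eq,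
        ← Nat.card_coe_set_eq, hcardK, Subgroup.index]
      refine Nat.card_le_card_of_injective
        (fun q : G ⧸ H => (⟨q.out * t * q.out⁻¹, hconjI q.out⟩ : I)) ?_
      intro q q' h
      have h' : q.out * t * q.out⁻¹ = q'.out * t * q'.out⁻¹ := congrArg Subtype.val h
      rw [← QuotientGroup.out_eq' q, ← QuotientGroup.out_eq' q', QuotientGroup.eq]
      refine inv_mul_mem_of_mem hH (x := q.out * t * q.out⁻¹) (hconjI q.out).1.1
        (by simpa [mul_assoc] using ht) ?_
      rw [h']
      simpa [mul_assoc] using ht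
  have htI : t ∈ I := by simpa using hconjI 1
  rw [htrans t htI] at hy
  obtain ⟨a, ha, rfl⟩ := hy
  -- write `y = a' * b'` and re-expand `x` to end in `a'`
  have hay : t * a ∈ frobeniusKernel H := by rw [htrans t htI]; exact ⟨a, ha, rfl⟩
  have hsymm : x⁻¹ ∈ frobeniusKernel H := by
    rw [frobeniusKernel_eq_compl] at hx ⊢
    rintro ⟨h1, g, hg⟩
    exact hx ⟨fun h => h1 (by simp [h]), g, by simpa [mul_assoc] using H.inv_mem hg⟩
  rw [htrans t htI] at hsymm
  obtain ⟨c, hc, hcx⟩ := hsymm
  have hx' : x = c * t := by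
    have := congrArg (fun u => u⁻¹) hcx
    simp only [inv_inv, mul_inv_rev] at this
    rw [← this, inv_eq_of_mul_eq_one_right hc.2, inv_eq_of_mul_eq_one_right ht2]
  rw [show x * (t * a) = c * a by rw [hx', mul_assoc, ← mul_assoc t t, ht2, one_mul], htrans c hc]
  exact ⟨a, ha, rfl⟩

end CfsgLib.FrobCompl
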