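import Mathlib
import Cfsg.Prelude.Def_Solvable
import Cfsg.Agent.Lib.FrobCompl.Counting
import Cfsg.Agent.Lib.Char.TI
import Cfsg.Agent.Lib.Char.Kernel

/-!
Frobenius' theorem: the kernel set of a Frobenius complement is a normal complement.
-/

namespace CfsgLib.FrobCompl

open Cfsg CfsgLib.Char
open scoped ComplexConjugate

set_option autoImplicit false
set_option linter.style.haveILetI false

variable {G : Type*} [Group G] [Finite G] {H : Subgroup G}

/-- Every irreducible character of a Frobenius complement extends to an irreducible character of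
the group that is constant on the kernel set. -/
theorem exists_extend_irr [Fintype G] [Fintype H] (hH : IsFrobeniusComplement H) {χ : H → ℂ}
    (hχ : IsIrrCharacter H χ) :
    ∃ φ : G → ℂ, IsIrrCharacter G φ ∧ (∀ h : H, φ h = χ h) ∧
      ∀ x ∈ frobeniusKernel H, φ x = φ 1 := by
  classical
  by_cases htriv : χ = fun _ => 1
  · exact ⟨fun _ => 1, isIrrCharacter_one, fun h => by rw [htriv], fun _ _ => rfl⟩
  obtain ⟨m, ρ, hρ, hρχ⟩ := id hχ
  have hdeg : χ 1 = (m : ℂ) := by
    rw [← hρχ, Representation.char_one, Module.finrank_fin_fun]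
  set ψ : H → ℂ := χ - (m : ℂ) • (fun _ => (1 : ℂ)) with hψ
  have hgen : IsGeneralizedCharacter H ψ :=
    isGeneralized_sub (isGeneralized_of_isIrr hχ)
      (by simpa using isGeneralized_intCast_smul (G := H) isGeneralized_one (m : ℤ))
  have hcl := isClassFunction_of_isGeneralized hgen
  have hψ1 : ψ 1 = 0 := by simp [hψ, hdeg]
  have hTI : ∀ g : G, g ∉ H → ∀ t ∈ (H : Set G), g * t * g⁻¹ ∈ (H : Set G) → t = 1 := by
    intro g hg t ht hgt
    by_contra h1
    exact hg (by simpa using mem_of_conj_mem hH (g := g⁻¹) h1 ht (by simpa using hgt))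
  have hsupp : ∀ x : H, (x : G) ∉ (H : Set G) → ψ x = 0 := fun x h => absurd x.2 h
  set φ : G → ℂ := indFun H ψ + (m : ℂ) • (fun _ => (1 : ℂ)) with hφ
  have hind1 : indFun H ψ 1 = 0 := by rw [indFun_one, hψ1, mul_zero]
  have hφgen : IsGeneralizedCharacter G φ :=
    isGeneralized_add (isGeneralized_indFun H hgen)
      (by simpa using isGeneralized_intCast_smul (G := G) isGeneralized_one (m : ℤ))
  have hone : IsIrrCharacter G (fun _ : G => (1 : ℂ)) := isIrrCharacter_one
  have honeH : IsIrrCharacter H (fun _ : H => (1 : ℂ)) := isIrrCharacter_one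
  have hψψ : classInner ψ ψ = 1 + (m : ℂ) * m := by
    rw [hψ, classInner_sub_left, classInner_sub_right, classInner_sub_right, classInner_smul_left,
      classInner_smul_left, classInner_smul_right, classInner_smul_right,
      classInner_irr_self hχ, classInner_irr_self honeH, classInner_irr_ne hχ honeH htriv,
      classInner_irr_ne honeH hχ (Ne.symm htriv)]
    simp
  have hψone : classInner ψ (fun _ : H => (1 : ℂ)) = -(m : ℂ) := by
    rw [hψ, classInner_sub_left, classInner_smul_left, classInner_irr_self honeH,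
      classInner_irr_ne hχ honeH htriv]
    simp
  have hI : classInner (indFun H ψ) (fun _ : G => (1 : ℂ)) = -(m : ℂ) := by
    rw [frobenius_reciprocity H ψ (isClassFunction_of_isCharacter isCharacter_one)]
    exact hψone
  have hI' : classInner (fun _ : G => (1 : ℂ)) (indFun H ψ) = -(m : ℂ) := by
    rw [← classInner_conj_symm, hI]; simp
  have hnorm : classInner φ φ = 1 := by
    rw [hφ, classInner_add_left, classInner_add_right, classInner_add_right, classInner_smul_left,
      classInner_smul_left, classInner_smul_right, classInner_smul_right,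
      classInner_indFun_of_ti H (H : Set G) hTI ψ ψ hcl hsupp hsupp hψ1, hψψ, hI, hI',
      classInner_irr_self hone]
    simp
  obtain ⟨ε, hε, ⟨ν, hν⟩, hφν⟩ := exists_of_norm_one hφgen hnorm
  have hφ1 : φ 1 = (m : ℂ) := by simp [hφ, hind1]
  obtain ⟨k, σ, hσ, hσν⟩ := id hν
  have hν1 : ν 1 = (k : ℂ) := by
    rw [← hσν, Representation.char_one, Module.finrank_fin_fun]
  have hm0 : m ≠ 0 := by
    have := finrank_pos_of_irreducible ρ
    rw [Module.finrank_fin_fun] at this
    omega
  have hεeq : ε = 1 := by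
    rcases hε with h | h
    · exact h
    · exfalso
      have h1 := congrFun hφν 1
      simp only [Pi.smul_apply, smul_eq_mul, h, hφ1, hν1] at h1
      have h2 : ((m + k : ℕ) : ℂ) = 0 := by push_cast; rw [h1]; ring
      have h3 : m + k = 0 := Nat.cast_eq_zero.mp h2
      omega
  have hφeq : φ = ν := by rw [hφν, hεeq, one_smul]
  refine ⟨ν, hν, fun h => ?_, fun x hx => ?_⟩
  · rw [← hφeq]
    by_cases h1 : h = 1
    · subst h1
      rw [OneMemClass.coe_one, hφ1, hdeg]
    · rw [hφ, Pi.add_apply, indFun_eq_of_ti H (H : Set G) hTI ψ hcl hsupp h h.2 h1]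
      simp [hψ]
  · rw [← hφeq, hφ1]
    rcases hx with rfl | hx
    · exact hφ1
    have h0 : indFun H ψ x = 0 := by
      unfold indFun
      rw [Finset.sum_eq_zero fun g _ => extendByZero_notMem H ψ fun h => hx g
        (mem_conj_smul.mpr h), mul_zero]
    simp [hφ, h0]

/-- Frobenius' theorem. -/
theorem exists_kernel_complement (hH : IsFrobeniusComplement H) :
    ∃ N : Subgroup G, (N : Set G) = frobeniusKernel H ∧ N.Normal ∧ Subgroup.IsComplement' N H := by
  classical
  haveI := Fintype.ofFinite G
  haveI := Fintype.ofFinite H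
  have hex : ∀ χ : IrrCharacter H, ∃ K : Subgroup G, K.Normal ∧ frobeniusKernel H ⊆ K ∧
      ∀ h : H, (h : G) ∈ K → (χ : H → ℂ) h = (χ : H → ℂ) 1 := by
    intro χ
    obtain ⟨φ, hφ, hres, hker⟩ := exists_extend_irr hH χ.2
    obtain ⟨K, hK, hmem, -⟩ := exists_kernel (isCharacter_of_isIrr hφ)
    refine ⟨K, hK, fun x hx => (hmem x).mpr (hker x hx), fun h hh => ?_⟩
    have := (hmem h).mp hh
    rw [hres] at this
    rw [this]
    exact (hres 1)
  choose K hKn hKker hKH using hex
  set N := ⨅ χ, K χ with hN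
  haveI : N.Normal := Subgroup.normal_iInf_normal hKn
  have hNH : N ⊓ H = ⊥ := by
    rw [eq_bot_iff]
    rintro x ⟨hxN, hxH⟩
    have hxN' : x ∈ N := hxN
    rw [hN, Subgroup.mem_iInf] at hxN'
    exact congrArg Subtype.val (eq_one_of_forall_irr (g := (⟨x, hxH⟩ : H))
      fun χ => hKH χ ⟨x, hxH⟩ (hxN' χ))
  have hsub : frobeniusKernel H ⊆ (N : Set G) := by
    intro x hx
    rw [SetLike.mem_coe, hN, Subgroup.mem_iInf]
    exact fun χ => hKker χ hx
  have heq : (N : Set G) = frobeniusKernel H := by
    refine Set.Subset.antisymm (fun x hx => ?_) hsub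
    rw [frobeniusKernel_eq_compl]
    rintro ⟨h1, g, hg⟩
    have hgN : g⁻¹ * x * g ∈ N ⊓ H :=
      ⟨by simpa using (inferInstance : N.Normal).conj_mem x hx g⁻¹, hg⟩
    rw [hNH, Subgroup.mem_bot] at hgN
    exact h1 (eq_one_of_conj hgN)
  refine ⟨N, heq, inferInstance, ?_⟩
  refine Subgroup.isComplement'_of_card_mul_and_disjoint ?_ (disjoint_iff.mpr hNH)
  have hc := card_frobeniusKernel hH
  rw [← heq] at hc
  rw [show Nat.card N = H.index from hc, Subgroup.index_mul_card]

end CfsgLib.FrobCompl
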