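import Mathlib
import Cfsg.Agent.Lib.FrobCompl.Kernel
import Cfsg.Agent.Lib.Hall.Basic
import Cfsg.Agent.S0033
import Cfsg.Agent.Lib.Critical.Basic
import Cfsg.Agent.Lib.FrobCompl.Basic

/-!
Nilpotency of the Frobenius kernel and conjugacy of Frobenius complements.
-/

namespace CfsgLib.FrobCompl

open Cfsg
open scoped Pointwise

set_option autoImplicit false
set_option linter.style.haveILetI false

universe u

variable {G : Type u} [Group G] [Finite G] {H : Subgroup G}

theorem kernel_isNilpotent (hH : IsFrobeniusComplement H) {N : Subgroup G} (hN : N.Normal)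
    (hc : Subgroup.IsComplement' N H) : Group.IsNilpotent N := by
  haveI := hN
  rcases subsingleton_or_nontrivial N with hs | hs
  · exact Group.isNilpotent_of_subsingleton
  haveI : Nontrivial H := (Subgroup.nontrivial_iff_ne_bot H).mpr hH.1
  obtain ⟨p, hp, hpd⟩ := Nat.exists_prime_and_dvd (Finite.one_lt_card (α := H)).ne'
  haveI := Fact.mk hp
  obtain ⟨⟨h, hh⟩, ho⟩ := exists_prime_orderOf_dvd_card' p hpd
  rw [Subgroup.orderOf_mk] at ho
  have h1 : h ≠ 1 := fun e => by rw [e, orderOf_one] at ho; exact hp.ne_one ho.symm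
  let φ : MulAut N := MulAut.conjNormal h
  have hfix : MonoidHom.FixedPointFree (φ : N →* N) := by
    intro a ha
    have ha' : h * (a : G) * h⁻¹ = a := congrArg Subtype.val ha
    have haH : (a : G) ∈ H := by
      refine mem_of_conj_mem hH h1 hh ?_
      rw [show (a : G)⁻¹ * h * (a : G) = h from by
        rw [mul_assoc, show h * (a : G) = a * h from mul_inv_eq_iff_eq_mul.mp ha', inv_mul_cancel_left]]
      exact hh
    have : (a : G) ∈ N ⊓ H := ⟨a.2, haH⟩
    rw [hc.disjoint.eq_bot, Subgroup.mem_bot] at this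
    exact Subtype.ext this
  have hφ : φ ^ p = 1 := by
    show (MulAut.conjNormal h) ^ p = 1
    rw [← map_pow, ← ho, pow_orderOf_eq_one, map_one]
  have hne : φ ≠ 1 := by
    intro e
    obtain ⟨a, ha⟩ := exists_ne (1 : N)
    exact ha (hfix a (by rw [e]; rfl))
  exact Cfsg.Agent.S0033.result φ hfix p hp (orderOf_eq_prime hφ hne)

theorem isComplement_coprime (hH : IsFrobeniusComplement H) {N : Subgroup G}
    (hc : Subgroup.IsComplement' N H) : (Nat.card N).Coprime (Nat.card H) := by
  have hN : Nat.card N = H.index := by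
    refine Nat.eq_of_mul_eq_mul_right (Nat.card_pos (α := H)) ?_
    rw [hc.card_mul, H.index_mul_card]
  have h := index_mod_card hH
  rw [hN, Nat.coprime_comm]
  unfold Nat.Coprime
  rw [Nat.gcd_rec, h, ← Nat.gcd_rec, Nat.gcd_one_right]

/-- A subgroup whose order divides that of the complement is conjugate into it. -/
theorem exists_conj_le_of_card_dvd (hH : IsFrobeniusComplement H) {L : Subgroup G}
    (hL : Nat.card L ∣ Nat.card H) : ∃ x : G, L ≤ MulAut.conj x • H := by
  obtain ⟨N, -, hN, hc⟩ := exists_kernel_complement hH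
  haveI := hN
  haveI := kernel_isNilpotent hH hN hc
  have hcop := isComplement_coprime hH hc
  obtain ⟨x, -, hx⟩ := CfsgLib.Hall.exists_conj_le_of_complement (N := N) (H := H) (K := L)
    inferInstance hcop (hcop.coprime_dvd_right hL) (hc.sup_eq_top ▸ le_top)
  exact ⟨x, hx⟩

theorem eq_of_le {A B : Subgroup G} (hA : IsFrobeniusComplement A) (hB : IsFrobeniusComplement B)
    (hle : A ≤ B) : A = B := by
  obtain ⟨NA, hNA, hNAn, hcA⟩ := exists_kernel_complement hA
  obtain ⟨NB, hNB, hNBn, hcB⟩ := exists_kernel_complement hB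
  haveI := hNAn
  haveI := hNBn
  have hsub : NB ≤ NA := by
    intro x hx
    have hx' : x ∈ frobeniusKernel B := hNB ▸ hx
    rw [← SetLike.mem_coe, hNA]
    refine hx'.imp_right fun h g hg => h g ?_
    rw [mem_conj_smul] at hg ⊢
    exact hle hg
  by_contra hne
  have hNBne : NB ≠ ⊥ := fun h => hB.2.1 (by
    rw [h] at hcB; exact Subgroup.isComplement'_bot_left.mp hcB)
  obtain ⟨b, hbB, hbA⟩ := SetLike.exists_of_lt (lt_of_le_of_ne hle hne)
  -- write `b` modulo `NA` to get a nontrivial element of `NA ⊓ B`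
  have hb' : b ∈ (↑(NA ⊔ A) : Set G) := by rw [hcA.sup_eq_top]; exact Set.mem_univ b
  rw [Subgroup.normal_mul] at hb'
  obtain ⟨n, hn, a, ha, rfl⟩ := Set.mem_mul.mp hb'
  have hnB : n ∈ B := by simpa using B.mul_mem hbB (B.inv_mem (hle ha))
  have hn1 : n ≠ 1 := fun h => hbA (by simpa [h] using ha)
  haveI := kernel_isNilpotent hA hNAn hcA
  haveI : (NB.subgroupOf NA).Normal := inferInstance
  have hbne : NB.subgroupOf NA ≠ ⊥ := by
    rw [Ne, Subgroup.subgroupOf_eq_bot, disjoint_iff, inf_eq_left.mpr hsub]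
    exact hNBne
  obtain ⟨⟨z, hz⟩, hz1⟩ :=
    Subgroup.ne_bot_iff_exists_ne_one.mp (CfsgLib.Critical.inf_center_ne_bot _ hbne)
  obtain ⟨hzN, hzc⟩ := Subgroup.mem_inf.mp hz
  have hcomm : n * (z : G) = (z : G) * n :=
    congrArg Subtype.val (Subgroup.mem_center_iff.mp hzc ⟨n, hn⟩)
  have hzB : (z : G) ∈ B := by
    refine mem_of_conj_mem hB hn1 hnB ?_
    rw [mul_assoc, hcomm, inv_mul_cancel_left]
    exact hnB
  have : (z : G) ∈ NB ⊓ B := ⟨hzN, hzB⟩
  rw [hcB.disjoint.eq_bot, Subgroup.mem_bot] at this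
  exact hz1 (Subtype.ext (Subtype.ext this))

theorem conj_isFrobeniusComplement (hH : IsFrobeniusComplement H) (g : G) :
    IsFrobeniusComplement (MulAut.conj g • H) :=
  isFrobeniusComplement_map (MulAut.conj g) hH

theorem exists_conj_eq {A B : Subgroup G} (hA : IsFrobeniusComplement A)
    (hB : IsFrobeniusComplement B) : ∃ g : G, MulAut.conj g • A = B := by
  obtain ⟨g, hg | hg⟩ := exists_conj_comparable hA hB
  · exact ⟨g, eq_of_le (conj_isFrobeniusComplement hA g) hB hg⟩
  · exact ⟨g, (eq_of_le hB (conj_isFrobeniusComplement hA g) hg).symm⟩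

end CfsgLib.FrobCompl
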