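import Mathlib
import Cfsg.Agent.Lib.FrobCompl.Conjugate

/-!
Frobenius groups described by a kernel and a fixed-point-free complement.
-/

namespace CfsgLib.FrobCompl

open Cfsg
open scoped Pointwise

set_option autoImplicit false
set_option linter.style.haveILetI false

universe u

variable {G : Type u} [Group G] {K H : Subgroup G}

theorem exists_kernel_mul [K.Normal] (hc : Subgroup.IsComplement' K H) (g : G) :
    ∃ k ∈ K, ∃ h ∈ H, k * h = g := by
  have hg' : g ∈ (↑(K ⊔ H) : Set G) := by rw [hc.sup_eq_top]; exact Set.mem_univ g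
  rw [Subgroup.normal_mul] at hg'
  exact Set.mem_mul.mp hg'

/-- A complement acting fixed-point-freely is a Frobenius complement. -/
theorem isFrobeniusComplement_of_fpf [K.Normal] (hc : Subgroup.IsComplement' K H) (hK : K ≠ ⊥)
    (hH : H ≠ ⊥) (hfpf : ∀ h ∈ H, h ≠ 1 → ∀ k ∈ K, k * h = h * k → k = 1) :
    IsFrobeniusComplement H := by
  refine ⟨hH, fun h => hK ?_, fun g hg => ?_⟩
  · rw [h] at hc
    exact Subgroup.isComplement'_top_right.mp hc
  · rw [eq_bot_iff]
    intro x hx
    rw [Subgroup.mem_inf, mem_conj_smul] at hx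
    rw [Subgroup.mem_bot]
    by_contra hx1
    obtain ⟨hxH, hxg⟩ := hx
    obtain ⟨k, hk, h, hh, rfl⟩ := exists_kernel_mul hc g
    set y := k⁻¹ * x * k with hy
    have hyH : y ∈ H := by
      have := H.mul_mem (H.mul_mem hh hxg) (H.inv_mem hh)
      simpa [hy, mul_assoc] using this
    have hKy : x⁻¹ * y ∈ K := by
      have h1 := (inferInstance : K.Normal).conj_mem k⁻¹ (K.inv_mem hk) x⁻¹
      simpa [hy, mul_assoc] using K.mul_mem h1 hk
    have hxy : x⁻¹ * y ∈ K ⊓ H := ⟨hKy, H.mul_mem (H.inv_mem hxH) hyH⟩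
    rw [hc.disjoint.eq_bot, Subgroup.mem_bot, inv_mul_eq_one] at hxy
    have e : x = k⁻¹ * x * k := hxy.trans hy
    have hk1 : k = 1 := hfpf x hxH hx1 k hk (by
      calc k * x = k * (k⁻¹ * x * k) := by rw [← e]
        _ = x * k := by group)
    subst hk1
    exact hg (by simpa using hh)

/-- Elements commuting with a nonidentity complement element lie in the complement. -/
theorem mem_of_commute (hH : IsFrobeniusComplement H) {h g : G} (hh : h ∈ H) (h1 : h ≠ 1)
    (hcomm : g * h = h * g) : g ∈ H :=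
  mem_of_conj_mem hH h1 hh (by rw [mul_assoc, ← hcomm, inv_mul_cancel_left]; exact hh)

/-- Elements commuting with a nonidentity kernel element lie in the kernel. -/
theorem mem_kernel_of_commute [K.Normal] (hH : IsFrobeniusComplement H)
    (hc : Subgroup.IsComplement' K H) (hker : (K : Set G) = frobeniusKernel H) {k g : G}
    (hk : k ∈ K) (h1 : k ≠ 1) (hcomm : g * k = k * g) : g ∈ K := by
  by_contra hg
  have hg' : g ∉ frobeniusKernel H := hker ▸ hg
  simp only [frobeniusKernel, Set.mem_ofPred_eq, not_or, not_forall, not_not] at hg'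
  obtain ⟨hg1, c, hgc⟩ := hg'
  rw [mem_conj_smul] at hgc
  have hkH : c⁻¹ * k * c ∈ H := by
    refine mem_of_commute hH hgc (fun e => hg1 (eq_one_of_conj e)) ?_
    calc c⁻¹ * k * c * (c⁻¹ * g * c) = c⁻¹ * (k * g) * c := by group
      _ = c⁻¹ * g * c * (c⁻¹ * k * c) := by rw [← hcomm]; group
  have hkK : c⁻¹ * k * c ∈ K ⊓ H :=
    ⟨by simpa using (inferInstance : K.Normal).conj_mem k hk c⁻¹, hkH⟩
  rw [hc.disjoint.eq_bot, Subgroup.mem_bot] at hkK
  exact h1 (eq_one_of_conj hkK)

variable [Finite G]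

/-- The kernel set of a Frobenius complement with a normal complement `K` is `K`. -/
theorem frobeniusKernel_eq_of_complement [K.Normal] (hH : IsFrobeniusComplement H)
    (hc : Subgroup.IsComplement' K H) : frobeniusKernel H = (K : Set G) := by
  symm
  refine Set.eq_of_subset_of_ncard_le ?_ ?_
  · intro x hx
    rw [frobeniusKernel_eq_compl]
    rintro ⟨h1, g, hg⟩
    have hgN : g⁻¹ * x * g ∈ K ⊓ H :=
      ⟨by simpa using (inferInstance : K.Normal).conj_mem x hx g⁻¹, hg⟩
    rw [hc.disjoint.eq_bot, Subgroup.mem_bot] at hgN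
    exact h1 (eq_one_of_conj hgN)
  · rw [← Nat.card_coe_set_eq, ← Nat.card_coe_set_eq, card_frobeniusKernel hH]
    refine le_of_eq (Nat.eq_of_mul_eq_mul_right (Nat.card_pos (α := H)) ?_)
    rw [H.index_mul_card]
    exact hc.card_mul.symm

end CfsgLib.FrobCompl
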