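import Mathlib
import Cfsg.Agent.Lib.FrobCompl.Conjugate
import Cfsg.Agent.Lib.FrobCompl.Fpf
import Cfsg.Agent.Lib.Coprime.Generation
import Cfsg.Agent.Lib.ZStar.Recognize

/-!
# Groups acting fixed point freely have no noncyclic subgroups of order `pq`
-/

set_option autoImplicit false
set_option linter.style.haveILetI false

open Cfsg
open scoped Pointwise

namespace CfsgLib.FrobCompl

universe u

variable {G : Type u} [Group G] [Finite G]

/-- A subgroup `E` of order `r q` with a subgroup `Y` of order `q`, all elements outside of which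
have order `r`, cannot act fixed point freely on a nontrivial abelian group. -/
theorem not_fpf_of_partition {r q : ℕ} (hr : r.Prime) (hq : q.Prime) {E Y V : Subgroup G}
    [IsMulCommutative V] (hV : V ≠ ⊥) (hEV : E ≤ Subgroup.normalizer (V : Set G))
    (hfpf : ∀ e ∈ E, e ≠ 1 → V ⊓ Subgroup.centralizer {e} = ⊥) (hYE : Y ≤ E)
    (hE : Nat.card E = r * q) (hY : Nat.card Y = q)
    (hout : ∀ e ∈ E, e ∉ Y → orderOf e = r) : False := by
  classical
  haveI := Fintype.ofFinite G
  letI : CommGroup V := { (inferInstance : Group V) with mul_comm := mul_comm' }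
  -- the action
  let φ : G → V → V := fun e v =>
    if h : e * (v : G) * e⁻¹ ∈ V then ⟨e * (v : G) * e⁻¹, h⟩ else 1
  have hφ : ∀ e ∈ E, ∀ v : V, ((φ e v : V) : G) = e * (v : G) * e⁻¹ := fun e he v => by
    have h : e * (v : G) * e⁻¹ ∈ V := (Subgroup.mem_normalizer_iff.mp (hEV he) v).mp v.2
    simp only [φ, dif_pos h]
  have hmul : ∀ e ∈ E, ∀ v w : V, φ e (v * w) = φ e v * φ e w := fun e he v w => by
    apply Subtype.ext
    rw [Subgroup.coe_mul, hφ e he, hφ e he, hφ e he, Subgroup.coe_mul]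
    group
  have hcomp : ∀ e ∈ E, ∀ f ∈ E, ∀ v : V, φ e (φ f v) = φ (e * f) v := fun e he f hf v => by
    apply Subtype.ext
    rw [hφ e he, hφ f hf, hφ (e * f) (E.mul_mem he hf)]
    group
  -- products over subgroups are trivial
  have hprod : ∀ C : Subgroup G, C ≤ E → C ≠ ⊥ → ∀ v : V,
      ∏ c ∈ Finset.univ.filter (· ∈ C), φ c v = 1 := by
    intro C hC hC0 v
    obtain ⟨⟨a, ha⟩, ha1⟩ := Subgroup.ne_bot_iff_exists_ne_one.mp hC0
    set w := ∏ c ∈ Finset.univ.filter (· ∈ C), φ c v with hw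
    have hfix : φ a w = w := by
      let ψ : V →* V := MonoidHom.mk' (φ a) (hmul a (hC ha))
      show ψ w = w
      rw [hw, map_prod]
      refine Finset.prod_bij' (fun c _ => a * c) (fun c _ => a⁻¹ * c) ?_ ?_ ?_ ?_ ?_
      · intro c hc; simpa using C.mul_mem ha (Finset.mem_filter.mp hc).2
      · intro c hc; simpa using C.mul_mem (C.inv_mem ha) (Finset.mem_filter.mp hc).2
      · intro c _; simp
      · intro c _; simp
      · intro c hc
        exact hcomp a (hC ha) c (hC (Finset.mem_filter.mp hc).2) v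
    have h1 : a * (w : G) * a⁻¹ = w := (hφ a (hC ha) w).symm.trans (congrArg Subtype.val hfix)
    have h2 : (w : G) ∈ V ⊓ Subgroup.centralizer {a} :=
      ⟨w.2, Subgroup.mem_centralizer_singleton_iff.mpr (mul_inv_eq_iff_eq_mul.mp h1).symm⟩
    rw [hfpf a (hC ha) (fun e => ha1 (Subtype.ext e)), Subgroup.mem_bot] at h2
    exact Subtype.ext h2
  have hone : ∀ v : V, φ 1 v = v := fun v => Subtype.ext (by rw [hφ 1 E.one_mem]; group)
  set S : Finset G := Finset.univ.filter (fun e => e ∈ E ∧ e ∉ Y) with hS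
  set T : Finset (Subgroup G) := S.image Subgroup.zpowers
  have hfiber : ∀ C ∈ T, S.filter (fun e => Subgroup.zpowers e = C) =
      (Finset.univ.filter (· ∈ C)).erase 1 := by
    intro C hC
    obtain ⟨e, he, rfl⟩ := Finset.mem_image.mp hC
    obtain ⟨heE, heY⟩ := (Finset.mem_filter.mp he).2
    have ho := hout e heE heY
    haveI : Fact r.Prime := ⟨hr⟩
    ext f
    simp only [Finset.mem_filter, Finset.mem_erase, Finset.mem_univ, true_and, hS]
    constructor
    · rintro ⟨⟨hfE, hfY⟩, hf⟩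
      refine ⟨?_, hf ▸ Subgroup.mem_zpowers f⟩
      rintro rfl
      exact hfY Y.one_mem
    · rintro ⟨hf1, hf⟩
      have heq : Subgroup.zpowers f = Subgroup.zpowers e := by
        refine Subgroup.eq_of_le_of_card_ge (Subgroup.zpowers_le.mpr hf) ?_
        rw [Nat.card_zpowers, Nat.card_zpowers, ho]
        refine Nat.le_of_dvd (orderOf_pos f) ?_
        rcases (Nat.dvd_prime hr).mp (ho ▸ Nat.card_zpowers e ▸ Subgroup.orderOf_dvd_natCard _ hf) with h | h
        · exact absurd (orderOf_eq_one_iff.mp h) hf1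
        · rw [h]
      refine ⟨⟨Subgroup.zpowers_le.mpr heE hf, fun hfY => heY ?_⟩, heq⟩
      exact Subgroup.zpowers_le.mpr hfY (heq.symm ▸ Subgroup.mem_zpowers e)
  have hTcard : T.card = q := by
    have h1 : ∀ C ∈ T, (S.filter (fun e => Subgroup.zpowers e = C)).card = r - 1 := by
      intro C hC
      rw [hfiber C hC]
      obtain ⟨e, he, rfl⟩ := Finset.mem_image.mp hC
      rw [Finset.card_erase_of_mem (by simp [one_mem]), ← Fintype.card_subtype,
        ← Nat.card_eq_fintype_card]
      have : Nat.card (Subgroup.zpowers e) = r := by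
        rw [Nat.card_zpowers, hout e (Finset.mem_filter.mp he).2.1 (Finset.mem_filter.mp he).2.2]
      simpa using congrArg (· - 1) this
    have h2 : S.card = T.card * (r - 1) := by
      rw [Finset.card_eq_sum_card_image Subgroup.zpowers S]
      show ∑ C ∈ T, (S.filter fun e => Subgroup.zpowers e = C).card = _
      rw [Finset.sum_congr rfl h1, Finset.sum_const, smul_eq_mul]
    have h3 : S.card = r * q - q := by
      rw [← hE, ← hY, hS]
      have : Finset.univ.filter (fun e => e ∈ E ∧ e ∉ Y) =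
          Finset.univ.filter (· ∈ E) \ Finset.univ.filter (· ∈ Y) := by
        ext e; simp
      rw [this, Finset.card_sdiff_of_subset (fun e he => by simp only [Finset.mem_filter] at he ⊢; exact ⟨he.1, hYE he.2⟩),
        ← Fintype.card_subtype, ← Fintype.card_subtype, ← Nat.card_eq_fintype_card, ← Nat.card_eq_fintype_card]
    rw [h2] at h3
    have h4 : r * q - q = q * (r - 1) := by rw [Nat.mul_sub_one, mul_comm]
    rw [h4] at h3
    exact Nat.eq_of_mul_eq_mul_right (by have := hr.two_le; omega) h3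
  have hpow : ∀ v : V, v ^ q = 1 := by
    intro v
    have hE0 : E ≠ ⊥ := fun e => by
      rw [e, Subgroup.card_bot] at hE
      exact hr.ne_one (Nat.eq_one_of_mul_eq_one_right hE.symm)
    have hY0 : Y ≠ ⊥ := fun e => by
      rw [e, Subgroup.card_bot] at hY
      exact hq.ne_one hY.symm
    have hs : ∏ e ∈ S, φ e v = 1 := by
      have h1 := hprod E le_rfl hE0 v
      rw [← Finset.prod_filter_mul_prod_filter_not (Finset.univ.filter (· ∈ E)) (· ∈ Y),
        Finset.filter_filter, Finset.filter_filter] at h1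
      have e1 : Finset.univ.filter (fun a => a ∈ E ∧ a ∈ Y) = Finset.univ.filter (· ∈ Y) := by
        ext e; simpa using fun h => hYE h
      rwa [e1, hprod Y hYE hY0 v, one_mul] at h1
    rw [← Finset.prod_fiberwise_of_maps_to (t := T) (g := Subgroup.zpowers)
      (fun e he => Finset.mem_image_of_mem _ he)] at hs
    have h2 : ∀ C ∈ T, ∏ e ∈ S.filter (fun e => Subgroup.zpowers e = C), φ e v = v⁻¹ := by
      intro C hC
      rw [hfiber C hC]
      obtain ⟨e, he, rfl⟩ := Finset.mem_image.mp hC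
      obtain ⟨heE, heY⟩ := (Finset.mem_filter.mp he).2
      have h3 := hprod (Subgroup.zpowers e) (Subgroup.zpowers_le.mpr heE)
        (fun h => heY (by rw [Subgroup.zpowers_eq_bot.mp h]; exact Y.one_mem)) v
      rw [← Finset.mul_prod_erase _ _ (show (1 : G) ∈ Finset.univ.filter (· ∈ Subgroup.zpowers e) by
        simp [one_mem]), hone] at h3
      exact (inv_eq_of_mul_eq_one_right h3).symm
    rw [Finset.prod_congr rfl h2, Finset.prod_const, hTcard, inv_pow, inv_eq_one] at hs
    exact hs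
  -- a subgroup of order `q` then has a fixed point
  haveI : Fact q.Prime := ⟨hq⟩
  have hVq : IsPGroup q V := fun v => ⟨1, by rw [pow_one]; exact hpow v⟩
  haveI : Nontrivial V := (Subgroup.nontrivial_iff_ne_bot V).mpr hV
  letI : MulAction Y V :=
    { smul := fun y v => φ y v
      one_smul := hone
      mul_smul := fun a b v => (hcomp a (hYE a.2) b (hYE b.2) v).symm }
  have hYq : IsPGroup q Y := IsPGroup.of_card (n := 1) (by rw [hY, pow_one])
  obtain ⟨y, hy1⟩ := Subgroup.ne_bot_iff_exists_ne_one.mp (show Y ≠ ⊥ from fun e => by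
    rw [e, Subgroup.card_bot] at hY
    exact hq.ne_one hY.symm)
  have h1fix : (1 : V) ∈ MulAction.fixedPoints Y V := fun a => Subtype.ext (by
    show ((φ a 1 : V) : G) = 1
    rw [hφ a (hYE a.2)]; simp)
  have hdvd : q ∣ Nat.card V := by
    obtain ⟨n, hn⟩ := IsPGroup.iff_card.mp hVq
    rw [hn]
    refine dvd_pow_self q ?_
    rintro rfl
    exact hV (Subgroup.eq_bot_of_card_eq V (by simpa using hn))
  obtain ⟨v, hv, hv1⟩ := hYq.exists_fixed_point_of_prime_dvd_card_of_fixed_point V hdvd h1fix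
  have h := congrArg Subtype.val (hv y)
  rw [show ((y • v : V) : G) = (y : G) * (v : G) * (y : G)⁻¹ from hφ y (hYE y.2) v] at h
  have h' : (v : G) ∈ V ⊓ Subgroup.centralizer {(y : G)} :=
    ⟨v.2, Subgroup.mem_centralizer_singleton_iff.mpr (mul_inv_eq_iff_eq_mul.mp h).symm⟩
  rw [hfpf y (hYE y.2) (fun e => hy1 (Subtype.ext e)), Subgroup.mem_bot] at h'
  exact hv1 (Subtype.ext h'.symm)

/-- In a group acting fixed point freely, elements `x, y` of prime orders such that `x` normalizes
`⟨y⟩` generate a cyclic group. -/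
theorem mem_zpowers_or_commute {r q : ℕ} (hr : r.Prime) (hq : q.Prime) {A V : Subgroup G}
    [IsMulCommutative V] (hV : V ≠ ⊥) (hAV : A ≤ Subgroup.normalizer (V : Set G))
    (hfpf : ∀ e ∈ A, e ≠ 1 → V ⊓ Subgroup.centralizer {e} = ⊥) {x y : G} (hxA : x ∈ A)
    (hyA : y ∈ A) (hx : orderOf x = r) (hy : orderOf y = q)
    (hn : x ∈ Subgroup.normalizer ((Subgroup.zpowers y : Subgroup G) : Set G)) :
    (r = q → x ∈ Subgroup.zpowers y) ∧ x * y = y * x := by
  classical
  by_cases hxy : x ∈ Subgroup.zpowers y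
  · obtain ⟨i, rfl⟩ := Subgroup.mem_zpowers_iff.mp hxy
    exact ⟨fun _ => hxy, ((Commute.refl y).zpow_left i).eq⟩
  by_contra hc
  set Y := Subgroup.zpowers y
  set X := Subgroup.zpowers x with hX
  have hXN : X ≤ Subgroup.normalizer (Y : Set G) := Subgroup.zpowers_le.mpr hn
  set E := X ⊔ Y
  have hdis : X ⊓ Y = ⊥ := by
    by_contra h
    obtain ⟨⟨z, hz⟩, hz1⟩ := Subgroup.ne_bot_iff_exists_ne_one.mp h
    haveI : Fact r.Prime := ⟨hr⟩
    apply hxy
    have heq : Subgroup.zpowers z = X := Subgroup.eq_of_le_of_card_ge (Subgroup.zpowers_le.mpr hz.1) (by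
      rw [hX, Nat.card_zpowers, Nat.card_zpowers, hx]
      refine Nat.le_of_dvd (orderOf_pos z) ?_
      rcases (Nat.dvd_prime hr).mp (hx ▸ Nat.card_zpowers x ▸ Subgroup.orderOf_dvd_natCard _ hz.1) with e | e
      · exact absurd (Subtype.ext (orderOf_eq_one_iff.mp e)) hz1
      · rw [e])
    exact Subgroup.zpowers_le.mpr hz.2 (heq.symm ▸ Subgroup.mem_zpowers x)
  have hset : (E : Set G) = (X : Set G) * (Y : Set G) :=
    Subgroup.coe_mul_of_left_le_normalizer_right X Y hXN
  have hEcard : Nat.card E = r * q := by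
    let f : X × Y → E := fun z => ⟨(z.1 : G) * (z.2 : G),
      E.mul_mem (Subgroup.mem_sup_left z.1.2) (Subgroup.mem_sup_right z.2.2)⟩
    have hf : Function.Bijective f := by
      constructor
      · rintro ⟨a, b⟩ ⟨a', b'⟩ h
        exact Subgroup.mul_injective_of_disjoint (disjoint_iff.mpr hdis) (congrArg Subtype.val h)
      · rintro ⟨e, he⟩
        rw [← SetLike.mem_coe, hset] at he
        obtain ⟨a, ha, b, hb, rfl⟩ := he
        exact ⟨⟨⟨a, ha⟩, ⟨b, hb⟩⟩, rfl⟩
    rw [← Nat.card_congr (Equiv.ofBijective f hf), Nat.card_prod, Nat.card_zpowers, Nat.card_zpowers, hx, hy]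
  have hEA : E ≤ A := sup_le (Subgroup.zpowers_le.mpr hxA) (Subgroup.zpowers_le.mpr hyA)
  refine not_fpf_of_partition hr hq (E := E) (Y := Y) hV (hEA.trans hAV)
    (fun e he => hfpf e (hEA he)) le_sup_right hEcard (by rw [Nat.card_zpowers, hy]) ?_
  intro e he heY
  by_cases hcomm : x * y = y * x
  · have hrq : r = q := by
      by_contra hrq
      exact hc ⟨fun h => absurd h hrq, hcomm⟩
    have he' : e ∈ (E : Set G) := he
    rw [hset] at he'
    obtain ⟨a, ha, b, hb, rfl⟩ := he'
    obtain ⟨i, rfl⟩ := Subgroup.mem_zpowers_iff.mp ha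
    obtain ⟨j, rfl⟩ := Subgroup.mem_zpowers_iff.mp hb
    haveI : Fact r.Prime := ⟨hr⟩
    refine orderOf_eq_prime ?_ fun h => heY (h ▸ Y.one_mem)
    rw [Commute.mul_pow ((Commute.zpow_zpow hcomm i j)), ← zpow_natCast, ← zpow_natCast, ← zpow_mul, ← zpow_mul,
      mul_comm i, mul_comm j, zpow_mul, zpow_mul, zpow_natCast, zpow_natCast]
    conv_lhs => rw [← hx, pow_orderOf_eq_one, hx, hrq, ← hy, pow_orderOf_eq_one]
    simp
  · have hdvd : orderOf e ∣ r * q := hEcard ▸ Subgroup.orderOf_dvd_natCard E he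
    rcases (Nat.dvd_mul.mp hdvd) with ⟨a, b, ha, hb, hab⟩
    rcases (Nat.dvd_prime hr).mp ha with rfl | rfl <;> rcases (Nat.dvd_prime hq).mp hb with rfl | rfl
    · exact absurd (orderOf_eq_one_iff.mp hab.symm) (fun h => heY (h ▸ Y.one_mem))
    · exfalso
      rw [one_mul] at hab
      have heN : e ∈ Subgroup.normalizer (Y : Set G) := (sup_le hXN Subgroup.le_normalizer) he
      have h2 : Y = E ⊓ Subgroup.normalizer (Y : Set G) ⊓ Y := (inf_eq_right.mpr
        (le_inf le_sup_right Subgroup.le_normalizer)).symm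
      obtain ⟨c, hc', d, hd, rfl⟩ := (hset ▸ (show e ∈ (E : Set G) from he) : e ∈ (X : Set G) * (Y : Set G))
      haveI : (Y.subgroupOf E).Normal :=
        (Subgroup.normal_subgroupOf_iff_le_normalizer le_sup_right).mpr (sup_le hXN Subgroup.le_normalizer)
      have h3 : (QuotientGroup.mk' (Y.subgroupOf E) ⟨c * d, he⟩) = 1 := by
        refine orderOf_eq_one_iff.mp (Nat.eq_one_of_dvd_coprimes ((Nat.coprime_primes hr hq).mpr ?_) ?_ ?_)
        · intro h
          subst h
          apply hcomm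
          haveI : Fact r.Prime := ⟨hr⟩
          haveI : IsMulCommutative E := IsPGroup.isMulCommutative_of_card_eq_prime_sq (p := r) (by rw [hEcard, pow_two])
          exact congrArg Subtype.val (mul_comm' (⟨x, Subgroup.mem_sup_left (Subgroup.mem_zpowers x)⟩ : E)
            ⟨y, Subgroup.mem_sup_right (Subgroup.mem_zpowers y)⟩)
        · have h4 : Nat.card (E ⧸ Y.subgroupOf E) = r := by
            have h5 := Subgroup.card_eq_card_quotient_mul_card_subgroup (Y.subgroupOf E)
            rw [hEcard, Nat.card_congr (Subgroup.subgroupOfEquivOfLe (le_sup_right : Y ≤ E)).toEquiv,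
              Nat.card_zpowers, hy] at h5
            exact (Nat.eq_of_mul_eq_mul_right hq.pos h5).symm
          exact h4 ▸ orderOf_dvd_natCard _
        · refine (orderOf_map_dvd _ _).trans ?_
          rw [Subgroup.orderOf_mk, ← hab]
      exact heY (Subgroup.mem_subgroupOf.mp ((QuotientGroup.eq_one_iff _).mp h3))
    · rw [← hab, mul_one]
    · exfalso
      apply hcomm
      haveI : IsCyclic E := isCyclic_of_orderOf_eq_card ⟨e, he⟩ (by rw [Subgroup.orderOf_mk, hEcard, hab])
      haveI : IsMulCommutative E := IsCyclic.isMulCommutative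
      exact congrArg Subtype.val (mul_comm' (⟨x, Subgroup.mem_sup_left (Subgroup.mem_zpowers x)⟩ : E)
        ⟨y, Subgroup.mem_sup_right (Subgroup.mem_zpowers y)⟩)

/-- An abelian group acting fixed point freely on a nontrivial abelian group is cyclic. -/
theorem isCyclic_of_comm {A V : Subgroup G} [IsMulCommutative V] [IsMulCommutative A] (hV : V ≠ ⊥)
    (hAV : A ≤ Subgroup.normalizer (V : Set G))
    (hfpf : ∀ e ∈ A, e ≠ 1 → V ⊓ Subgroup.centralizer {e} = ⊥) : IsCyclic A := by
  by_contra hA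
  obtain ⟨p, hp, x, hx, y, hy, hxp, hyp, hy1, hxy⟩ := CfsgLib.Coprime.exists_pair_of_not_isCyclic A hA
  haveI : Fact p.Prime := ⟨hp⟩
  have hn : x ∈ Subgroup.normalizer ((Subgroup.zpowers y : Subgroup G) : Set G) :=
    Subgroup.centralizer_le_normalizer _ (Subgroup.mem_centralizer_iff.mpr fun z hz => by
      obtain ⟨i, rfl⟩ := Subgroup.mem_zpowers_iff.mp hz
      exact congrArg Subtype.val (mul_comm' (⟨y ^ i, A.zpow_mem hy i⟩ : A) ⟨x, hx⟩))
  exact hxy ((mem_zpowers_or_commute hp hp hV hAV hfpf hx hy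
    (orderOf_eq_prime hxp (fun e => hxy (e ▸ one_mem _))) (orderOf_eq_prime hyp hy1) hn).1 rfl)

/-- A `p`-subgroup of a group acting fixed point freely has a single subgroup of order `p`. -/
theorem mem_zpowers_of_pgroup {p : ℕ} [hp : Fact p.Prime] {P A V : Subgroup G} [IsMulCommutative V]
    (hV : V ≠ ⊥) (hAV : A ≤ Subgroup.normalizer (V : Set G))
    (hfpf : ∀ e ∈ A, e ≠ 1 → V ⊓ Subgroup.centralizer {e} = ⊥) (hP : IsPGroup p P) (hPA : P ≤ A)
    {x y : G} (hx : x ∈ P) (hy : y ∈ P) (hxo : orderOf x = p) (hyo : orderOf y = p) :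
    x ∈ Subgroup.zpowers y := by
  haveI : Nontrivial P := ⟨⟨⟨x, hx⟩, 1, fun e => by
    have e' : x = 1 := congrArg Subtype.val e
    rw [e', orderOf_one] at hxo
    exact hp.out.ne_one hxo.symm⟩⟩
  haveI := hP.center_nontrivial
  obtain ⟨k, hk⟩ := IsPGroup.iff_card.mp (hP.to_subgroup (Subgroup.center P))
  have hk0 : k ≠ 0 := by
    rintro rfl
    rw [pow_zero] at hk
    exact (Finite.one_lt_card (α := Subgroup.center P)).ne' hk
  obtain ⟨z, hz⟩ := exists_prime_orderOf_dvd_card' (G := Subgroup.center P) p (hk ▸ dvd_pow_self p hk0)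
  set w : G := (((z : Subgroup.center P) : P) : G)
  have hwo : orderOf w = p := by rw [Subgroup.orderOf_coe, Subgroup.orderOf_coe, hz]
  have hcz : ∀ u : G, u ∈ P → orderOf u = p → u ∈ Subgroup.zpowers w := by
    intro u hu huo
    refine (mem_zpowers_or_commute hp.out hp.out hV hAV hfpf (hPA hu) (hPA ((z : Subgroup.center P) : P).2)
      huo hwo (Subgroup.centralizer_le_normalizer _ (Subgroup.mem_centralizer_iff.mpr fun v hv => ?_))).1 rfl
    obtain ⟨i, rfl⟩ := Subgroup.mem_zpowers_iff.mp hv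
    have h := Subgroup.mem_center_iff.mp z.2 ⟨u, hu⟩
    exact ((show Commute w u from (congrArg Subtype.val h).symm).zpow_left i).eq
  have heq : Subgroup.zpowers y = Subgroup.zpowers w :=
    Subgroup.eq_of_le_of_card_ge (Subgroup.zpowers_le.mpr (hcz y hy hyo))
      (by rw [Nat.card_zpowers, Nat.card_zpowers, hyo, hwo])
  rw [heq]
  exact hcz x hx hxo

/-- Sylow subgroups of a group acting fixed point freely are cyclic or quaternion. -/
theorem sylow_structure {p : ℕ} [hp : Fact p.Prime] {P A V : Subgroup G} [IsMulCommutative V]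
    (hV : V ≠ ⊥) (hAV : A ≤ Subgroup.normalizer (V : Set G))
    (hfpf : ∀ e ∈ A, e ≠ 1 → V ⊓ Subgroup.centralizer {e} = ⊥) (hP : IsPGroup p P) (hPA : P ≤ A) :
    (p ≠ 2 → IsCyclic P) ∧ (p = 2 → ∀ x y : P, orderOf x = 2 → orderOf y = 2 → x = y) := by
  refine ⟨fun h2 => CfsgLib.ZStar.cyclic_of_unique_subgroup h2 hP fun H K hH hK => ?_, fun h2 x y hx hy => ?_⟩
  · obtain ⟨a, ha⟩ := exists_prime_orderOf_dvd_card' (G := H) p hH.symm.dvd
    obtain ⟨b, hb⟩ := exists_prime_orderOf_dvd_card' (G := K) p hK.symm.dvd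
    have haH : Subgroup.zpowers (a : P) = H := Subgroup.eq_of_le_of_card_ge
      (Subgroup.zpowers_le.mpr a.2) (by rw [Nat.card_zpowers, Subgroup.orderOf_coe, ha, hH])
    have hbK : Subgroup.zpowers (b : P) = K := Subgroup.eq_of_le_of_card_ge
      (Subgroup.zpowers_le.mpr b.2) (by rw [Nat.card_zpowers, Subgroup.orderOf_coe, hb, hK])
    have h1 := mem_zpowers_of_pgroup hV hAV hfpf hP hPA (a : P).2 (b : P).2
      (by rw [Subgroup.orderOf_coe, Subgroup.orderOf_coe, ha]) (by rw [Subgroup.orderOf_coe, Subgroup.orderOf_coe, hb])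
    obtain ⟨i, hi⟩ := Subgroup.mem_zpowers_iff.mp h1
    refine Subgroup.eq_of_le_of_card_ge ?_ (by rw [hH, hK])
    rw [← haH, Subgroup.zpowers_le, show (a : P) = (b : P) ^ i from Subtype.ext hi.symm]
    exact K.zpow_mem b.2 i
  · subst h2
    obtain ⟨i, hi⟩ := Subgroup.mem_zpowers_iff.mp
      (mem_zpowers_of_pgroup hV hAV hfpf hP hPA x.2 y.2 (by rw [Subgroup.orderOf_coe, hx]) (by rw [Subgroup.orderOf_coe, hy]))
    rcases Int.even_or_odd i with ⟨k, hk⟩ | ⟨k, hk⟩
    · exfalso
      rw [hk, ← two_mul, zpow_mul, zpow_ofNat, show ((y : G)) ^ 2 = 1 by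
        rw [← hy, ← Subgroup.orderOf_coe, pow_orderOf_eq_one], one_zpow] at hi
      rw [show x = 1 from Subtype.ext hi.symm, orderOf_one] at hx
      omega
    · rw [hk, zpow_add, zpow_mul, zpow_ofNat, show ((y : G)) ^ 2 = 1 by
        rw [← hy, ← Subgroup.orderOf_coe, pow_orderOf_eq_one], one_zpow, one_mul, zpow_one] at hi
      exact Subtype.ext hi.symm

end CfsgLib.FrobCompl
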