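import Mathlib
import Cfsg.Agent.Lib.FrobCompl.Noncyclic

/-!
# The center of a Frobenius complement is nontrivial
-/

set_option autoImplicit false
set_option linter.style.haveILetI false

open Cfsg
open scoped Pointwise

namespace CfsgLib.FrobCompl

universe u

variable {G : Type u} [Group G] [Finite G]

/-- A fixed point free complement acts fixed point freely on a nontrivial abelian group. -/
theorem exists_abelian_module {K H : Subgroup G} [K.Normal] (hc : Subgroup.IsComplement' K H)
    (hK : K ≠ ⊥) (hH : H ≠ ⊥) (hfpf : ∀ h ∈ H, h ≠ 1 → K ⊓ Subgroup.centralizer {h} = ⊥) :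
    ∃ V : Subgroup G, IsMulCommutative V ∧ V ≠ ⊥ ∧ H ≤ Subgroup.normalizer (V : Set G) ∧
      ∀ h ∈ H, h ≠ 1 → V ⊓ Subgroup.centralizer {h} = ⊥ := by
  have hF : IsFrobeniusComplement H := isFrobeniusComplement_of_fpf hc hK hH fun h hh h1 k hk e => by
    have h2 : k ∈ K ⊓ Subgroup.centralizer {h} :=
      ⟨hk, Subgroup.mem_centralizer_singleton_iff.mpr e⟩
    rwa [hfpf h hh h1, Subgroup.mem_bot] at h2
  haveI := kernel_isNilpotent hF inferInstance hc
  haveI : Nontrivial K := (Subgroup.nontrivial_iff_ne_bot K).mpr hK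
  refine ⟨(Subgroup.center K).map K.subtype, ⟨⟨?_⟩⟩, ?_, Subgroup.le_normalizer_of_normal, fun h hh h1 => ?_⟩
  · rintro ⟨a, a', ha, rfl⟩ ⟨b, b', hb, rfl⟩
    apply Subtype.ext
    exact (congrArg Subtype.val (Subgroup.mem_center_iff.mp ha b')).symm
  · rw [ne_eq, Subgroup.map_eq_bot_iff_of_injective _ K.subtype_injective]
    intro e
    refine (⊤ : Subgroup K).ne_bot_iff_exists_ne_one.mpr ?_ (le_bot_iff.mp (by
      by_contra hne
      have h1 := CfsgLib.Critical.inf_center_ne_bot (⊤ : Subgroup K) (fun e' => hne e'.le)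
      rw [top_inf_eq] at h1
      exact h1 e))
    obtain ⟨a, ha⟩ := exists_ne (1 : K)
    exact ⟨⟨a, trivial⟩, fun e' => ha (congrArg Subtype.val e')⟩
  · rw [← le_bot_iff, ← hfpf h hh h1]
    exact inf_le_inf_right _ (Subgroup.map_subtype_le _)

/-- An element of prime order normalizing a cyclic `q`-group and centralizing its subgroup of
order `q` centralizes it. -/
theorem commute_of_cyclic {r q : ℕ} (hr : r.Prime) (hq : q.Prime) (hrq : r ≠ q) {Q : Subgroup G}
    (hQ : IsPGroup q Q) [IsCyclic Q] {x : G} (hx : x ^ r = 1)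
    (hn : x ∈ Subgroup.normalizer (Q : Set G))
    (hΩ : ∀ y ∈ Q, y ^ q = 1 → x * y = y * x) : ∀ z ∈ Q, x * z = z * x := by
  haveI : IsMulCommutative Q := IsCyclic.isMulCommutative
  have hQc : ∀ a ∈ Q, ∀ b ∈ Q, a * b = b * a := fun a ha b hb =>
    congrArg Subtype.val (mul_comm' (⟨a, ha⟩ : Q) ⟨b, hb⟩)
  have key : ∀ (k : ℕ) (z : G), z ∈ Q → z ^ q ^ k = 1 → x * z = z * x := by
    intro k
    induction k with
    | zero => intro z _ hz1; rw [pow_zero, pow_one] at hz1; simp [hz1]
    | succ k ih =>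
      intro z hz hz1
      have h1 : x * z ^ q = z ^ q * x := ih (z ^ q) (pow_mem hz q) (by rw [← pow_mul, ← pow_succ']; exact hz1)
      set d := x * z * x⁻¹ * z⁻¹ with hd
      have hxz : x * z * x⁻¹ ∈ Q := (Subgroup.mem_normalizer_iff.mp hn z).mp hz
      have hdQ : d ∈ Q := Q.mul_mem hxz (Q.inv_mem hz)
      have hdq : d ^ q = 1 := by
        rw [hd, Commute.mul_pow (hQc _ hxz _ (inv_mem hz)), conj_pow, h1, inv_pow]; group
      have hpow : ∀ m : ℕ, x ^ m * z * (x ^ m)⁻¹ = d ^ m * z := by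
        intro m
        induction m with
        | zero => simp
        | succ m ihm =>
          have hfix : x * d ^ m * x⁻¹ = d ^ m := by
            rw [hΩ _ (Q.pow_mem hdQ m) (by rw [← pow_mul, mul_comm, pow_mul, hdq, one_pow])]; group
          calc x ^ (m + 1) * z * (x ^ (m + 1))⁻¹ = x * (x ^ m * z * (x ^ m)⁻¹) * x⁻¹ := by
                rw [pow_succ']; group
            _ = (x * d ^ m * x⁻¹) * (x * z * x⁻¹) := by rw [ihm]; group
            _ = d ^ m * (d * z) := by rw [hfix, hd, inv_mul_cancel_right]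
            _ = d ^ (m + 1) * z := by rw [pow_succ, ← mul_assoc]
      have hd1 : d ^ r = 1 := by
        have := hpow r
        rw [hx, inv_one, one_mul, mul_one] at this
        exact mul_eq_right.mp this.symm
      have : d = 1 := orderOf_eq_one_iff.mp (Nat.eq_one_of_dvd_coprimes
        ((Nat.coprime_primes hr hq).mpr hrq) (orderOf_dvd_of_pow_eq_one hd1) (orderOf_dvd_of_pow_eq_one hdq))
      rw [hd, mul_inv_eq_one, mul_inv_eq_iff_eq_mul] at this
      exact this
  intro z hz
  obtain ⟨k, hk⟩ := hQ ⟨z, hz⟩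
  exact key k z hz (congrArg Subtype.val hk)

/-- The center of a group acting fixed point freely on a nontrivial abelian group is nontrivial. -/
theorem center_ne_bot {A V : Subgroup G} [IsMulCommutative V] (hA : A ≠ ⊥) (hV : V ≠ ⊥)
    (hAV : A ≤ Subgroup.normalizer (V : Set G))
    (hfpf : ∀ e ∈ A, e ≠ 1 → V ⊓ Subgroup.centralizer {e} = ⊥) : Subgroup.center A ≠ ⊥ := by
  classical
  have h1 : Nat.card A ≠ 1 := (A.one_lt_card_iff_ne_bot.mpr hA).ne'
  set r := (Nat.card A).minFac with hr'
  have hr : r.Prime := Nat.minFac_prime h1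
  haveI : Fact r.Prime := ⟨hr⟩
  obtain ⟨R⟩ := (inferInstance : Nonempty (Sylow r A))
  obtain ⟨x, hx⟩ := exists_prime_orderOf_dvd_card' (G := A) r (Nat.minFac_dvd _)
  suffices h : ∃ z : A, z ≠ 1 ∧ ∀ a : A, a * z = z * a by
    obtain ⟨z, hz1, hz⟩ := h
    intro e
    have : z ∈ Subgroup.center A := Subgroup.mem_center_iff.mpr hz
    rw [e, Subgroup.mem_bot] at this
    exact hz1 this
  by_cases hr2 : r = 2
  · -- the involution is unique
    have huniq : ∀ y : A, orderOf y = 2 → y = x := by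
      intro y hy
      -- `y` and `x` lie in conjugate Sylow subgroups
      haveI : Fact (Nat.Prime 2) := ⟨Nat.prime_two⟩
      by_contra hne
      have hcomm : ∀ (u : A) (v : V), orderOf u = 2 → (u : G) * (v : G) * (u : G)⁻¹ = (v : G)⁻¹ := by
        intro u v hu
        have hu1 : (u : G) ≠ 1 := fun e => by
          rw [show u = 1 from Subtype.ext e, orderOf_one] at hu; omega
        have hu2 : (u : G) * (u : G) = 1 := by
          have := pow_orderOf_eq_one u
          rw [hu, pow_two] at this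
          exact congrArg Subtype.val this
        have hm : (u : G) * (v : G) * (u : G)⁻¹ ∈ V := (Subgroup.mem_normalizer_iff.mp (hAV u.2) v).mp v.2
        have hVc : ∀ a ∈ V, ∀ b ∈ V, a * b = b * a := fun a ha b hb =>
          congrArg Subtype.val (mul_comm' (⟨a, ha⟩ : V) ⟨b, hb⟩)
        have hw : ((u : G) * (v : G) * (u : G)⁻¹) * (v : G) ∈ V ⊓ Subgroup.centralizer {(u : G)} := by
          refine ⟨V.mul_mem hm v.2, Subgroup.mem_centralizer_singleton_iff.mpr ?_⟩
          have hinv : (u : G)⁻¹ = u := inv_eq_of_mul_eq_one_right hu2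
          have e1 := hVc _ hm _ v.2
          rw [hinv] at e1 ⊢
          calc ((u : G) * v * u) * v * u = (u : G) * v * (u * v * u) := by group
            _ = (u : G) * ((v : G) * ((u : G) * v * u)) := by group
            _ = (u : G) * (((u : G) * v * u) * (v : G)) := by rw [e1]
        rw [hfpf u u.2 hu1, Subgroup.mem_bot] at hw
        exact eq_inv_of_mul_eq_one_left hw
      obtain ⟨⟨v, hv⟩, hv1⟩ := Subgroup.ne_bot_iff_exists_ne_one.mp hV
      have hxy1 : (x : G)⁻¹ * y ≠ 1 := fun e => hne (Subtype.ext (inv_mul_eq_one.mp e).symm)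
      have h2 : v ∈ V ⊓ Subgroup.centralizer {(x : G)⁻¹ * y} := by
        refine ⟨hv, Subgroup.mem_centralizer_singleton_iff.mpr ?_⟩
        have e1 := hcomm y ⟨v, hv⟩ hy
        have e2 := hcomm x ⟨v, hv⟩ (hr2 ▸ hx)
        rw [← e1] at e2
        calc v * ((x : G)⁻¹ * y) = (x : G)⁻¹ * ((x : G) * v * (x : G)⁻¹) * y := by group
          _ = (x : G)⁻¹ * y * v := by rw [e2]; group
      rw [hfpf _ (A.mul_mem (A.inv_mem x.2) y.2) hxy1, Subgroup.mem_bot] at h2
      exact hv1 (Subtype.ext h2)
    refine ⟨x, fun e => by rw [e, orderOf_one] at hx; exact hr.ne_one hx.symm, fun a => ?_⟩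
    have := huniq (MulAut.conj a x) (by rw [MulEquiv.orderOf_eq, hx, hr2])
    rw [MulAut.conj_apply] at this
    exact mul_inv_eq_iff_eq_mul.mp this
  -- odd case: cyclic Sylow subgroup for the smallest prime
  have hRc : IsCyclic R := by
    have h2 := (sylow_structure hV hAV hfpf (R.2.map A.subtype) (Subgroup.map_subtype_le _)).1 hr2
    exact isCyclic_of_surjective _ ((R : Subgroup A).equivMapOfInjective A.subtype A.subtype_injective).symm.surjective
  have hcompl := IsCyclic.isComplement' (G := A) (p := r) hr'.symm (P := R) hRc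
  set M := (MonoidHom.transferSylow R (hRc.normalizer_le_centralizer hr'.symm)).ker
  obtain ⟨z, hz⟩ := exists_prime_orderOf_dvd_card' (G := (R : Subgroup A)) r (by
    obtain ⟨k, hk⟩ := IsPGroup.iff_card.mp R.2
    rw [hk]
    refine dvd_pow_self r ?_
    rintro rfl
    refine R.not_dvd_index ?_
    rw [(R : Subgroup A).eq_bot_of_card_eq (by simpa using hk), Subgroup.index_bot]
    exact Nat.minFac_dvd _)
  refine ⟨(z : A), fun e => by
    rw [show z = 1 from Subtype.ext e, orderOf_one] at hz; exact hr.ne_one hz.symm, ?_⟩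
  set w : A := (z : A) with hw
  haveI : IsMulCommutative (R : Subgroup A) := IsCyclic.isMulCommutative
  suffices hC : Subgroup.centralizer ({w} : Set A) = ⊤ by
    intro a
    exact Subgroup.mem_centralizer_singleton_iff.mp (hC ▸ Subgroup.mem_top a)
  rw [← Subgroup.index_eq_one]
  by_contra hne
  obtain ⟨q, hq, hqd⟩ := Nat.exists_prime_and_dvd hne
  haveI : Fact q.Prime := ⟨hq⟩
  by_cases hqr : q = r
  · rw [hqr] at hqd
    refine R.not_dvd_index (hqd.trans (Subgroup.index_dvd_of_le fun a ha => ?_))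
    exact Subgroup.mem_centralizer_singleton_iff.mpr
      (congrArg Subtype.val (mul_comm' (⟨a, ha⟩ : (R : Subgroup A)) z))
  -- a Sylow `q`-subgroup normalized by `w`
  obtain ⟨Q₀⟩ := (inferInstance : Nonempty (Sylow q A))
  haveI hMn : M.Normal := inferInstance
  have hQM : (Q₀ : Subgroup A) ≤ M := by
    intro a ha
    obtain ⟨j, hj⟩ := Q₀.2 ⟨a, ha⟩
    have h2 : orderOf (a : A ⧸ M) = 1 := by
      obtain ⟨k, hk⟩ := IsPGroup.iff_card.mp R.2
      refine Nat.eq_one_of_dvd_coprimes (Nat.coprime_pow_primes j k hq hr hqr) ?_ ?_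
      · exact (orderOf_map_dvd (QuotientGroup.mk' M) a).trans (orderOf_dvd_of_pow_eq_one (congrArg Subtype.val hj))
      · rw [← hk, ← hcompl.symm.index_eq_card]
        exact orderOf_dvd_natCard _
    exact (QuotientGroup.eq_one_iff a).mp (orderOf_eq_one_iff.mp h2)
  set N := Subgroup.normalizer (Q₀ : Set A)
  have hsup : N ⊔ M = ⊤ := Sylow.normalizer_sup_eq_top' Q₀ hQM
  obtain ⟨S⟩ := (inferInstance : Nonempty (Sylow r N))
  obtain ⟨T, hT⟩ := (S.2.map N.subtype).exists_le_sylow
  have hST : (S : Subgroup N).map N.subtype = T := by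
    refine Subgroup.eq_of_le_of_card_ge hT ?_
    have hsurj : Function.Surjective ((QuotientGroup.mk' M).comp N.subtype) := by
      intro a
      obtain ⟨a, rfl⟩ := QuotientGroup.mk'_surjective M a
      obtain ⟨b, hb, c, hc', rfl⟩ := Subgroup.mem_sup_of_normal_right.mp
        (show a ∈ N ⊔ M by rw [hsup]; trivial)
      refine ⟨⟨b, hb⟩, ?_⟩
      show QuotientGroup.mk' M b = _
      rw [map_mul, show QuotientGroup.mk' M c = 1 from (QuotientGroup.eq_one_iff c).mpr hc', mul_one]
    obtain ⟨k, hk⟩ := IsPGroup.iff_card.mp R.2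
    have h2 : r ^ k ∣ Nat.card N := by
      rw [← hk, ← hcompl.symm.index_eq_card]
      exact Subgroup.card_dvd_of_surjective _ hsurj
    rw [Sylow.card_eq_multiplicity T, Subgroup.card_map_of_injective N.subtype_injective]
    have h3 : Nat.card (R : Subgroup A) = r ^ (Nat.card A).factorization r := R.card_eq_multiplicity
    rw [← h3, hk]
    exact Nat.le_of_dvd Nat.card_pos (S.pow_dvd_card_of_pow_dvd_card h2)
  obtain ⟨g, hg⟩ := MulAction.exists_smul_eq A T R
  set Q : Sylow q A := g • Q₀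
  have hwQ : w ∈ Subgroup.normalizer ((Q : Subgroup A) : Set A) := by
    have h2 : g⁻¹ * w * g ∈ N := by
      have h3 : w ∈ ((g • T : Sylow r A) : Subgroup A) := by rw [hg]; exact z.2
      rw [Sylow.coe_subgroup_smul, mem_conj_smul] at h3
      exact Subgroup.map_subtype_le _ (hST.symm ▸ h3)
    rw [Subgroup.mem_normalizer_iff]
    intro y
    show y ∈ ((g • Q₀ : Sylow q A) : Subgroup A) ↔ w * y * w⁻¹ ∈ ((g • Q₀ : Sylow q A) : Subgroup A)
    rw [Sylow.coe_subgroup_smul, mem_conj_smul, mem_conj_smul]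
    have h4 := Subgroup.mem_normalizer_iff.mp h2 (g⁻¹ * y * g)
    simp only [mul_inv_rev, inv_inv, mul_assoc, mul_inv_cancel_left] at h4 ⊢
    exact h4
  have hq2 : q ≠ 2 := by
    intro e
    have h2 : r ≤ q := Nat.minFac_le_of_dvd hq.two_le (hqd.trans (Subgroup.index_dvd_card _))
    have := hr.two_le
    omega
  haveI hQc : IsCyclic Q := by
    have h2 := (sylow_structure hV hAV hfpf (Q.2.map A.subtype) (Subgroup.map_subtype_le _)).1 hq2
    exact isCyclic_of_surjective _ ((Q : Subgroup A).equivMapOfInjective A.subtype A.subtype_injective).symm.surjective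
  have hwo : orderOf w = r := by rw [hw, Subgroup.orderOf_coe, hz]
  refine Q.not_dvd_index (hqd.trans (Subgroup.index_dvd_of_le fun a ha => ?_))
  refine Subgroup.mem_centralizer_singleton_iff.mpr (commute_of_cyclic hr hq (Ne.symm hqr) Q.2
    (by rw [← hwo, pow_orderOf_eq_one]) hwQ (fun y hy hyq => ?_) a ha).symm
  by_cases hy1 : y = 1
  · simp [hy1]
  have hyo : orderOf y = q := orderOf_eq_prime hyq hy1
  apply Subtype.ext
  refine (mem_zpowers_or_commute hr hq hV hAV hfpf w.2 y.2 (by rw [Subgroup.orderOf_coe, hwo])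
    (by rw [Subgroup.orderOf_coe, hyo]) ?_).2
  -- `w` normalizes the unique subgroup of order `q` of `Q`
  have key : ∀ (u : A), u ∈ Subgroup.normalizer ((Q : Subgroup A) : Set A) → ∀ c ∈ Subgroup.zpowers (y : G),
      (u : G) * c * (u : G)⁻¹ ∈ Subgroup.zpowers (y : G) := by
    intro u hu c hc'
    obtain ⟨i, rfl⟩ := Subgroup.mem_zpowers_iff.mp hc'
    have h2 : u * y * u⁻¹ ∈ (Q : Subgroup A) := (Subgroup.mem_normalizer_iff.mp hu y).mp hy
    obtain ⟨j, hj⟩ := Subgroup.mem_zpowers_iff.mp (mem_zpowers_of_pgroup (p := q) hV hAV hfpf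
      (Q.2.map A.subtype) (Subgroup.map_subtype_le _)
      (x := ((u * y * u⁻¹ : A) : G)) (y := (y : G))
      (Subgroup.mem_map_of_mem A.subtype h2) (Subgroup.mem_map_of_mem A.subtype hy)
      (by rw [Subgroup.orderOf_coe, show u * y * u⁻¹ = MulAut.conj u y from rfl, MulEquiv.orderOf_eq, hyo])
      (by rw [Subgroup.orderOf_coe, hyo]))
    rw [← conj_zpow]
    exact Subgroup.zpow_mem _ (Subgroup.mem_zpowers_iff.mpr ⟨j, by simpa using hj⟩) i
  rw [Subgroup.mem_normalizer_iff]
  refine fun c => ⟨key w hwQ c, fun hc' => ?_⟩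
  have h2 := key w⁻¹ (inv_mem hwQ) _ hc'
  simpa [mul_assoc] using h2

end CfsgLib.FrobCompl
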