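import Mathlib
import Cfsg.Prelude.Def_Solvable
import Cfsg.Agent.Lib.FrobCompl.Basic
import Cfsg.Agent.Lib.FrobCompl.Center
import Cfsg.Agent.Lib.FrobCompl.Fpf
import Cfsg.Agent.Lib.FrobCompl.Kernel

/-!
# Fixed-point-free modules in every coprime characteristic, and products
-/

set_option autoImplicit false
set_option linter.style.haveILetI false

open Cfsg

namespace CfsgLib.FrobCompl

universe u v

/-- `H` acts without fixed points on some nontrivial finite abelian group. -/
def HasFpf (H : Type*) [Group H] : Prop :=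
  ∃ (V : Type) (_ : AddCommGroup V) (_ : Finite V) (_ : Nontrivial V) (ρ : H →* AddMonoid.End V),
    ∀ h : H, h ≠ 1 → ∀ v : V, ρ h v = v → v = 0

theorem HasFpf.of_injective {H : Type u} {K : Type v} [Group H] [Group K] (hH : HasFpf H) (i : K →* H)
    (hi : Function.Injective i) : HasFpf K := by
  obtain ⟨V, iV, fV, nV, ρ, hρ⟩ := hH
  exact ⟨V, iV, fV, nV, ρ.comp i, fun k hk v hv =>
    hρ (i k) (fun h => hk (hi (h.trans (map_one i).symm))) v hv⟩

theorem HasFpf.exists_complement {H : Type u} [Group H] [Finite H] [Nontrivial H] (hH : HasFpf H) :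
    ∃ (L : Type) (_ : Group L) (_ : Finite L) (C : Subgroup L),
      IsFrobeniusComplement C ∧ Nonempty (H ≃* C) := by
  obtain ⟨V, iV, fV, nV, ρ, hρ⟩ := hH
  exact exists_isFrobeniusComplement (fun h v => ρ h v) (fun v => by rw [map_one]; rfl)
    (fun g h v => by rw [map_mul]; rfl) (fun h v w => map_add (ρ h) v w) hρ

theorem hasFpf_of_complement {H : Type u} [Group H] {L : Type} [Group L] [Finite L] {C : Subgroup L}
    (hC : IsFrobeniusComplement C) (e : H ≃* C) : HasFpf H := by
  obtain ⟨N, -, hN, hc⟩ := exists_kernel_complement hC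
  haveI := hN
  have hN1 : N ≠ ⊥ := fun h => hC.2.1 (Subgroup.isComplement'_bot_left.mp (h ▸ hc))
  obtain ⟨V, hVc, hV, hCV, hfpf⟩ := exists_abelian_module hc hN1 hC.1 (fun h hh h1 => eq_bot_iff.mpr fun k hk => by
    obtain ⟨hkN, hkc⟩ := Subgroup.mem_inf.mp hk
    have hkC := mem_of_commute hC hh h1 (Subgroup.mem_centralizer_singleton_iff.mp hkc)
    exact hc.disjoint.le_bot ⟨hkN, hkC⟩)
  haveI := hVc
  haveI : Nontrivial V := (Subgroup.nontrivial_iff_ne_bot V).mpr hV
  letI : CommGroup V := { (inferInstance : Group V) with mul_comm := fun a b => mul_comm' a b }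
  have hmem : ∀ (c : C) (v : V), (c : L) * v * (c : L)⁻¹ ∈ V := fun c v =>
    (Subgroup.mem_normalizer_iff.mp (hCV c.2) _).mp v.2
  let f : C → V →* V := fun c =>
    { toFun := fun v => ⟨(c : L) * v * (c : L)⁻¹, hmem c v⟩
      map_one' := Subtype.ext (by simp)
      map_mul' := fun a b => Subtype.ext (by simp [mul_assoc]) }
  let σ : C →* AddMonoid.End (Additive V) :=
    { toFun := fun c => MonoidHom.toAdditive (f c)
      map_one' := AddMonoidHom.ext fun v => Additive.toMul.injective (Subtype.ext (by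
        show (1 : L) * (v.toMul : L) * (1 : L)⁻¹ = v.toMul
        simp))
      map_mul' := fun a b => AddMonoidHom.ext fun v => Additive.toMul.injective (Subtype.ext (by
        show ((a : L) * b) * (v.toMul : L) * ((a : L) * b)⁻¹ = a * (b * v.toMul * (b : L)⁻¹) * (a : L)⁻¹
        group)) }
  refine ⟨Additive V, inferInstance, inferInstance, inferInstance, σ.comp e.toMonoidHom, fun h hh v hv => ?_⟩
  have h1 : ((e h : C) : L) ≠ 1 := fun h1 => hh (e.injective ((Subtype.ext h1).trans (map_one e).symm))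
  have hv' : ((e h : C) : L) * v.toMul * ((e h : C) : L)⁻¹ = v.toMul :=
    congrArg (fun w => ((Additive.toMul w : V) : L)) hv
  have hb : (v.toMul : L) ∈ V ⊓ Subgroup.centralizer {((e h : C) : L)} :=
    ⟨v.toMul.2, Subgroup.mem_centralizer_singleton_iff.mpr (mul_inv_eq_iff_eq_mul.mp hv').symm⟩
  rw [hfpf _ (e h).2 h1, Subgroup.mem_bot] at hb
  exact Additive.toMul.injective (Subtype.ext hb)

section Module

variable {H : Type u} [Group H] {V : Type v} [AddCommGroup V] (ρ : H →* AddMonoid.End V)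

theorem pow_fixed {g : H} {v : V} (h : ρ g v = v) : ∀ i : ℕ, ρ (g ^ i) v = v
  | 0 => by rw [pow_zero, map_one]; rfl
  | i + 1 => by
    rw [pow_succ, map_mul]
    show ρ (g ^ i) (ρ g v) = v
    rw [h, pow_fixed h i]

theorem sum_pow_eq_zero (hρ : ∀ h : H, h ≠ 1 → ∀ v : V, ρ h v = v → v = 0) {g : H} {r : ℕ}
    (hg : g ^ r = 1) (hg1 : g ≠ 1) (v : V) : ∑ i ∈ Finset.range r, ρ (g ^ i) v = 0 := by
  refine hρ g hg1 _ ?_
  have h1 : ∀ i, ρ g (ρ (g ^ i) v) = ρ (g ^ (i + 1)) v := fun i => by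
    rw [pow_succ', map_mul]; rfl
  rw [map_sum, Finset.sum_congr rfl fun i _ => h1 i]
  have h2 := Finset.sum_range_succ (fun i => ρ (g ^ i) v) r
  rw [Finset.sum_range_succ' (fun i => ρ (g ^ i) v) r, pow_zero, hg] at h2
  exact add_right_cancel h2

theorem torsion_eq_zero [Finite V] (hρ : ∀ h : H, h ≠ 1 → ∀ v : V, ρ h v = v → v = 0) {g : H} {r : ℕ}
    (hr : r.Prime) (hg : orderOf g = r) {v : V} (hv : r • v = 0) : v = 0 := by
  classical
  by_contra hne
  haveI := Fact.mk hr
  let W := {w : V // r • w = 0}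
  letI : MulAction (Subgroup.zpowers g) W :=
    { smul := fun s w => ⟨ρ (s : H) w.1, by rw [← map_nsmul, w.2, map_zero]⟩
      one_smul := fun w => Subtype.ext (by show ρ (1 : H) w.1 = w.1; rw [map_one]; rfl)
      mul_smul := fun s t w => Subtype.ext (by
        show ρ ((s : H) * t) w.1 = ρ (s : H) (ρ (t : H) w.1)
        rw [map_mul]; rfl) }
  have hp : IsPGroup r (Subgroup.zpowers g) := IsPGroup.of_card (n := 1) (by rw [Nat.card_zpowers, hg, pow_one])
  let T : AddSubgroup V := (nsmulAddMonoidHom r : V →+ V).ker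
  have hmemT : ∀ w : V, w ∈ T ↔ r • w = 0 := fun w => Iff.rfl
  have hdvd : r ∣ Nat.card W := by
    have hcard : Nat.card W = Nat.card T := Nat.card_congr (Equiv.subtypeEquivRight fun w => (hmemT w).symm)
    rw [hcard, ← addOrderOf_eq_prime hv hne]
    exact (addOrderOf_injective T.subtype T.subtype_injective (⟨v, hv⟩ : T)).symm ▸ addOrderOf_dvd_natCard _
  obtain ⟨w, hwfix, hw0⟩ := hp.exists_fixed_point_of_prime_dvd_card_of_fixed_point W hdvd
    (a := ⟨0, smul_zero r⟩) (fun s => Subtype.ext (map_zero (ρ (s : H))))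
  have hg1 : g ≠ 1 := fun h => hr.ne_one (by rw [← hg, h, orderOf_one])
  exact hw0 (Subtype.ext (hρ g hg1 w.1 (congrArg Subtype.val (hwfix ⟨g, Subgroup.mem_zpowers g⟩))).symm)

/-- Two commuting elements of the same prime order generate a cyclic group. -/
theorem exists_pow_mul_eq_one [Finite V] [Nontrivial V] (hρ : ∀ h : H, h ≠ 1 → ∀ v : V, ρ h v = v → v = 0)
    {a b : H} {r : ℕ} (hr : r.Prime) (ha : orderOf a = r) (hb : b ^ r = 1) (hab : Commute a b) :
    ∃ i : ℕ, a ^ i * b = 1 := by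
  by_contra hcon
  push Not at hcon
  obtain ⟨v, hv⟩ := exists_ne (0 : V)
  refine hv (torsion_eq_zero ρ hρ hr ha ?_)
  have har : a ^ r = 1 := ha ▸ pow_orderOf_eq_one a
  have h0 : ∑ i ∈ Finset.range r, ∑ j ∈ Finset.range r, ρ ((a ^ i * b) ^ j) v = 0 :=
    Finset.sum_eq_zero fun i _ => sum_pow_eq_zero ρ hρ
      (by rw [(hab.pow_left i).mul_pow, hb, mul_one, ← pow_mul, mul_comm, pow_mul, har, one_pow]) (hcon i) v
  rw [Finset.sum_comm] at h0
  rw [← h0]
  have hterm : ∀ i j, ρ ((a ^ i * b) ^ j) v = ρ (b ^ j) (ρ ((a ^ j) ^ i) v) := fun i j => by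
    rw [(hab.pow_left i).mul_pow, ← pow_mul, mul_comm i j, pow_mul, ((hab.pow_left j).pow_left i |>.pow_right j).eq,
      map_mul]
    rfl
  rw [Finset.sum_eq_single_of_mem 0 (Finset.mem_range.mpr hr.pos) fun j hj hj0 => ?_]
  · rw [Finset.sum_congr rfl fun i _ => (show ρ ((a ^ i * b) ^ 0) v = v by rw [pow_zero, map_one]; rfl),
      Finset.sum_const, Finset.card_range]
  · have hj1 : a ^ j ≠ 1 := fun h => by
      have := Nat.le_of_dvd (Nat.pos_of_ne_zero hj0) (ha ▸ orderOf_dvd_of_pow_eq_one h)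
      have := Finset.mem_range.mp hj
      omega
    rw [Finset.sum_congr rfl fun i _ => hterm i j, ← map_sum,
      sum_pow_eq_zero ρ hρ (by rw [← pow_mul, mul_comm, pow_mul, har, one_pow]) hj1 v, map_zero]

/-- The fixed-point-free action can be taken of prime exponent, prime to the group order. -/
theorem exists_prime_exponent [Finite H] [Finite V] [Nontrivial V]
    (hρ : ∀ h : H, h ≠ 1 → ∀ v : V, ρ h v = v → v = 0) :
    ∃ p : ℕ, p.Prime ∧ ¬ p ∣ Nat.card H ∧ ∃ (W : Type v) (_ : AddCommGroup W) (_ : Nontrivial W)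
      (σ : H →* AddMonoid.End W), (∀ w : W, p • w = 0) ∧ ∀ h : H, h ≠ 1 → ∀ w : W, σ h w = w → w = 0 := by
  obtain ⟨p, hp, hpd⟩ := Nat.exists_prime_and_dvd (Finite.one_lt_card (α := V)).ne'
  haveI := Fact.mk hp
  obtain ⟨v, hv⟩ := exists_prime_addOrderOf_dvd_card' p hpd
  have hv0 : v ≠ 0 := fun h => hp.ne_one (by rw [← hv, h, addOrderOf_zero])
  have hpv : p • v = 0 := hv ▸ addOrderOf_nsmul_eq_zero v
  refine ⟨p, hp, fun hd => ?_, ?_⟩
  · obtain ⟨g, hg⟩ := exists_prime_orderOf_dvd_card' p hd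
    exact hv0 (torsion_eq_zero ρ hρ hp hg hpv)
  · let T : AddSubgroup V := (nsmulAddMonoidHom p : V →+ V).ker
    have hmemT : ∀ w : V, w ∈ T ↔ p • w = 0 := fun w => Iff.rfl
    have hstable : ∀ (h : H) (w : T), ρ h (w : V) ∈ T := fun h w => by
      rw [hmemT, ← map_nsmul, (hmemT _).mp w.2, map_zero]
    let σ : H →* AddMonoid.End T :=
      { toFun := fun h => AddMonoidHom.mk' (fun w => ⟨ρ h (w : V), hstable h w⟩)
          (fun a b => Subtype.ext (map_add (ρ h) (a : V) (b : V)))
        map_one' := AddMonoidHom.ext fun w => Subtype.ext (by show ρ 1 (w : V) = w; rw [map_one]; rfl)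
        map_mul' := fun a b => AddMonoidHom.ext fun w => Subtype.ext (by
          show ρ (a * b) (w : V) = ρ a (ρ b (w : V)); rw [map_mul]; rfl) }
    refine ⟨T, inferInstance, ⟨⟨⟨v, hpv⟩, 0, fun h => hv0 (congrArg Subtype.val h)⟩⟩, σ,
      fun w => Subtype.ext ((hmemT _).mp w.2), fun h hh w hw => Subtype.ext (hρ h hh w (congrArg Subtype.val hw))⟩

end Module

section Algebra

variable {H : Type u} [Group H]

/-- The sum of the powers of `g` in a group algebra. -/
noncomputable def powSum (R : Type*) [CommRing R] (g : H) (r : ℕ) : MonoidAlgebra R H :=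
  ∑ i ∈ Finset.range r, MonoidAlgebra.single (g ^ i) 1

theorem powSum_mul_self (R : Type*) [CommRing R] {g : H} {r : ℕ} (hg : g ^ r = 1) :
    powSum R g r * powSum R g r = (r : MonoidAlgebra R H) * powSum R g r := by
  have h1 : MonoidAlgebra.single g (1 : R) * powSum R g r = powSum R g r := by
    rw [powSum, Finset.mul_sum]
    simp only [MonoidAlgebra.single_mul_single, mul_one, ← pow_succ']
    have h2 := Finset.sum_range_succ (fun i => MonoidAlgebra.single (g ^ i) (1 : R)) r
    rw [Finset.sum_range_succ' (fun i => MonoidAlgebra.single (g ^ i) (1 : R)) r, pow_zero, hg] at h2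
    exact add_right_cancel h2
  have h2 : ∀ i : ℕ, MonoidAlgebra.single (g ^ i) (1 : R) * powSum R g r = powSum R g r := by
    intro i
    induction i with
    | zero => rw [pow_zero]; exact one_mul _
    | succ i ih =>
      rw [pow_succ, show MonoidAlgebra.single (g ^ i * g) (1 : R) =
        MonoidAlgebra.single (g ^ i) (1 : R) * MonoidAlgebra.single g 1 by
          rw [MonoidAlgebra.single_mul_single, mul_one], mul_assoc, h1, ih]
  conv_lhs => rw [powSum, Finset.sum_mul]
  rw [← powSum, Finset.sum_congr rfl fun i _ => h2 i, Finset.sum_const, Finset.card_range, nsmul_eq_mul]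

theorem map_powSum {R S : Type*} [CommRing R] [CommRing S] (f : R →+* S) (g : H) (r : ℕ) :
    MonoidAlgebra.mapRingHom H f (powSum R g r) = powSum S g r := by
  simp [powSum, map_sum]

/-- A lifted idempotent annihilating all power sums. -/
theorem exists_lift_idempotent [Finite H] {V : Type v} [AddCommGroup V] [Nontrivial V] {p : ℕ} [Fact p.Prime]
    (ρ : H →* AddMonoid.End V) (hpV : ∀ w : V, p • w = 0) (hρ : ∀ h : H, h ≠ 1 → ∀ w : V, ρ h w = w → w = 0)
    (hpH : ¬ p ∣ Nat.card H) (k : ℕ) :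
    ∃ e : MonoidAlgebra (ZMod (p ^ (k + 1))) H, (∃ g, IsUnit (e.coeff g)) ∧
      ∀ (g : H) (r : ℕ), r.Prime → orderOf g = r → ∀ x, powSum _ g r * x * e = 0 := by
  classical
  haveI : Fintype H := Fintype.ofFinite H
  haveI : NeZero (Nat.card H : ZMod p) := ⟨fun h => hpH ((ZMod.natCast_eq_zero_iff _ _).mp h)⟩
  letI := AddCommGroup.zmodModule (n := p) hpV
  let σ : Representation (ZMod p) H V :=
    { toFun := fun h => (ρ h).toZModLinearMap p
      map_one' := LinearMap.ext fun w => by show ρ 1 w = w; rw [map_one]; rfl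
      map_mul' := fun a b => LinearMap.ext fun w => by show ρ (a * b) w = ρ a (ρ b w); rw [map_mul]; rfl }
  let Φ := σ.asAlgebraHom
  let J : Ideal (MonoidAlgebra (ZMod p) H) := RingHom.ker Φ.toRingHom
  have hmemJ : ∀ x, x ∈ J ↔ Φ x = 0 := fun x => Iff.rfl
  have heps : ∀ (g : H) (r : ℕ), r.Prime → orderOf g = r → powSum (ZMod p) g r ∈ J := by
    intro g r hr hg
    rw [hmemJ, powSum, map_sum]
    refine LinearMap.ext fun w => ?_
    rw [LinearMap.sum_apply, LinearMap.zero_apply]
    have h1 : ∀ i, Φ (MonoidAlgebra.single (g ^ i) 1) w = ρ (g ^ i) w := fun i => by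
      show σ.asAlgebraHom _ w = _
      rw [Representation.asAlgebraHom_single_one]; rfl
    rw [Finset.sum_congr rfl fun i _ => h1 i]
    exact sum_pow_eq_zero ρ hρ (hg ▸ pow_orderOf_eq_one g) (fun h => hr.ne_one (by rw [← hg, h, orderOf_one])) w
  obtain ⟨J', hJ'⟩ := MonoidAlgebra.Submodule.exists_isCompl J
  obtain ⟨f, hf, e, he, hfe⟩ := Submodule.mem_sup.mp (hJ'.sup_eq_top.ge (Submodule.mem_top (x := (1 : MonoidAlgebra (ZMod p) H))))
  have hJe : ∀ y ∈ J, y * e = 0 := fun y hy => by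
    have h1 : y * e ∈ J' := J'.smul_mem y he
    have h2 : y * e ∈ J := by rw [hmemJ, map_mul, (hmemJ y).mp hy, zero_mul]
    exact (Submodule.disjoint_def.mp hJ'.disjoint) _ h2 h1
  have hee : e * e = e := by
    have := hJe f hf
    calc e * e = (f + e) * e := by rw [add_mul, this, zero_add]
      _ = e := by rw [hfe, one_mul]
  have he0 : e ≠ 0 := fun h => by
    rw [h, add_zero] at hfe
    obtain ⟨w, hw⟩ := exists_ne (0 : V)
    have h1 := (hmemJ f).mp hf
    rw [hfe, map_one] at h1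
    exact hw (LinearMap.congr_fun h1 w)
  -- lift
  let R := ZMod (p ^ (k + 1))
  have hdvd : p ∣ p ^ (k + 1) := dvd_pow_self p k.succ_ne_zero
  let π := MonoidAlgebra.mapRingHom H (ZMod.castHom hdvd (ZMod p))
  have hπ : Function.Surjective π := by
    intro y
    induction y using MonoidAlgebra.induction_linear with
    | zero => exact ⟨0, map_zero π⟩
    | single m c =>
      obtain ⟨c', hc'⟩ := ZMod.castHom_surjective hdvd c
      exact ⟨MonoidAlgebra.single m c', by simp [π, hc']⟩
    | add a b ha hb =>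
      obtain ⟨a', rfl⟩ := ha
      obtain ⟨b', rfl⟩ := hb
      exact ⟨a' + b', map_add π a' b'⟩
  haveI : NeZero (p ^ (k + 1)) := ⟨pow_ne_zero _ (Fact.out : p.Prime).ne_zero⟩
  have hker : ∀ x, π x = 0 → ∃ z, x = (p : MonoidAlgebra R H) * z := by
    intro x hx
    refine ⟨MonoidAlgebra.ofCoeff (x.coeff.mapRange (fun c : R => ((c.val / p : ℕ) : R)) (by simp)),
      MonoidAlgebra.ext (Finsupp.ext fun m => ?_)⟩
    have hm : ZMod.castHom hdvd (ZMod p) (x.coeff m) = 0 := by
      have := congrArg (fun y : MonoidAlgebra (ZMod p) H => y.coeff m) hx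
      simpa [π] using this
    have hdm : p ∣ (x.coeff m).val := by
      rw [← ZMod.natCast_eq_zero_iff, ← hm, ← map_natCast (ZMod.castHom hdvd (ZMod p)), ZMod.natCast_zmod_val]
    rw [MonoidAlgebra.natCast_def, MonoidAlgebra.coeff_single_one_mul, MonoidAlgebra.coeff_ofCoeff,
      Finsupp.mapRange_apply]
    rw [← Nat.cast_mul, Nat.mul_div_cancel' hdm, ZMod.natCast_zmod_val]
  have hp0 : (p : MonoidAlgebra R H) ^ (k + 1) = 0 := by
    rw [← Nat.cast_pow, MonoidAlgebra.natCast_def, ZMod.natCast_self, MonoidAlgebra.single_zero]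
  obtain ⟨et, het, hete⟩ := exists_isIdempotentElem_eq_of_ker_isNilpotent π (fun x hx => by
    obtain ⟨z, rfl⟩ := hker x hx
    exact ⟨k + 1, by rw [(Nat.cast_commute p z).mul_pow, hp0, zero_mul]⟩) e (hπ e) hee
  refine ⟨et, ?_, fun g r hr hg x => ?_⟩
  · obtain ⟨m, hm⟩ : ∃ m, e.coeff m ≠ 0 := by
      by_contra h
      push Not at h
      exact he0 (MonoidAlgebra.ext (Finsupp.ext fun m => by simpa using h m))
    refine ⟨m, ?_⟩
    have hm' : ¬ p ∣ (et.coeff m).val := fun hd => hm (by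
      rw [← hete]
      have : ZMod.castHom hdvd (ZMod p) (et.coeff m) = 0 := by
        rw [← ZMod.natCast_zmod_val (et.coeff m), map_natCast]
        exact (ZMod.natCast_eq_zero_iff _ _).mpr hd
      simpa [π] using this)
    rw [← ZMod.natCast_zmod_val (et.coeff m), ZMod.isUnit_iff_coprime]
    exact ((Fact.out : p.Prime).coprime_iff_not_dvd.mpr hm').symm.pow_right _
  · -- `r` is invertible
    have hrp : r.Coprime (p ^ (k + 1)) := by
      refine (Nat.coprime_primes hr Fact.out).mpr (fun h => hpH ?_) |>.pow_right _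
      rw [← h, ← hg]; exact orderOf_dvd_natCard g
    obtain ⟨s, -, hs⟩ := Nat.exists_mul_mod_eq_one_of_coprime hrp (Nat.one_lt_pow k.succ_ne_zero (Fact.out : p.Prime).one_lt)
    have hs' : (s : MonoidAlgebra R H) * (r : MonoidAlgebra R H) = 1 := by
      rw [← Nat.cast_mul, MonoidAlgebra.natCast_def, MonoidAlgebra.one_def]
      congr 1
      rw [mul_comm s r, ← Nat.mod_add_div (r * s) (p ^ (k + 1)), hs, Nat.cast_add, Nat.cast_mul,
        ZMod.natCast_self, zero_mul, add_zero, Nat.cast_one]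
    have hgr : g ^ r = 1 := hg ▸ pow_orderOf_eq_one g
    have hP : ∀ j : ℕ, ∀ x, ∃ z, powSum R g r * x * et = (p : MonoidAlgebra R H) ^ j * z := by
      intro j
      induction j with
      | zero => intro x; exact ⟨_, by rw [pow_zero, one_mul]⟩
      | succ j ih =>
        intro x
        obtain ⟨z, hz⟩ := ih x
        obtain ⟨w, hw⟩ := hker (powSum R g r * z * et) (by
          rw [map_mul, map_mul, hete]
          show MonoidAlgebra.mapRingHom H _ (powSum R g r) * _ * _ = 0
          rw [map_powSum, hJe _ (by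
            rw [hmemJ, map_mul, (hmemJ _).mp (heps g r hr hg), zero_mul])])
        refine ⟨(s : MonoidAlgebra R H) * w, ?_⟩
        have hcomm : Commute ((p : MonoidAlgebra R H) ^ j) (powSum R g r) := (Nat.cast_commute p _).pow_left j
        have key : (r : MonoidAlgebra R H) * (powSum R g r * x * et) = (p : MonoidAlgebra R H) ^ (j + 1) * w := by
          calc (r : MonoidAlgebra R H) * (powSum R g r * x * et)
              = powSum R g r * (powSum R g r * x * et) * et := by
                rw [← mul_assoc, ← mul_assoc, ← powSum_mul_self R hgr]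
                simp only [mul_assoc, het.eq]
            _ = (p : MonoidAlgebra R H) ^ j * (powSum R g r * z * et) := by
                rw [hz, ← mul_assoc, ← hcomm.eq]; simp only [mul_assoc]
            _ = _ := by rw [hw, ← mul_assoc, ← pow_succ]
        calc powSum R g r * x * et = (s : MonoidAlgebra R H) * ((r : MonoidAlgebra R H) * (powSum R g r * x * et)) := by
              rw [← mul_assoc (s : MonoidAlgebra R H), hs', one_mul]
          _ = _ := by rw [key, ← mul_assoc, (Nat.cast_commute s _).eq, mul_assoc]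
    obtain ⟨z, hz⟩ := hP (k + 1) x
    rw [hz, hp0, zero_mul]

end Algebra

section Ideal

variable {H : Type u} [Group H]

/-- The span of the two-sided multiples of the power sums over subgroups of prime order. -/
noncomputable def fpfIdeal (H : Type u) [Group H] : Submodule ℤ (MonoidAlgebra ℤ H) :=
  Submodule.span ℤ {y | ∃ (g : H) (r : ℕ) (x z : MonoidAlgebra ℤ H),
    r.Prime ∧ orderOf g = r ∧ y = x * powSum ℤ g r * z}

theorem powSum_mul_mem_fpfIdeal {g : H} {r : ℕ} (hr : r.Prime) (hg : orderOf g = r) (x : MonoidAlgebra ℤ H) :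
    powSum ℤ g r * x ∈ fpfIdeal H :=
  Submodule.subset_span ⟨g, r, 1, x, hr, hg, by rw [one_mul]⟩

theorem mul_mem_fpfIdeal (a : MonoidAlgebra ℤ H) {y : MonoidAlgebra ℤ H} (hy : y ∈ fpfIdeal H) :
    a * y ∈ fpfIdeal H := by
  induction hy using Submodule.span_induction with
  | mem y hy =>
    obtain ⟨g, r, x, z, hr, hg, rfl⟩ := hy
    exact Submodule.subset_span ⟨g, r, a * x, z, hr, hg, by simp only [mul_assoc]⟩
  | zero => rw [mul_zero]; exact zero_mem _
  | add a' b _ _ ha hb => rw [mul_add]; exact add_mem ha hb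
  | smul c a' _ ha => rw [mul_smul_comm]; exact Submodule.smul_mem _ c ha

/-- If `H` acts fixed-point-freely then no nonzero integer lies in `fpfIdeal H`. -/
theorem eq_zero_of_smul_one_mem_fpfIdeal [Finite H] (hH : HasFpf H) {N : ℤ}
    (hN : N • (1 : MonoidAlgebra ℤ H) ∈ fpfIdeal H) : N = 0 := by
  classical
  obtain ⟨V, iV, fV, nV, ρ, hρ⟩ := hH
  obtain ⟨p, hp, hpH, V', iV', nV', ρ', hpV, hρ'⟩ := exists_prime_exponent ρ hρ
  haveI := Fact.mk hp
  by_contra hne
  obtain ⟨e, ⟨m, hm⟩, he⟩ := exists_lift_idempotent ρ' hpV hρ' hpH N.natAbs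
  let φ := MonoidAlgebra.mapRingHom H (Int.castRingHom (ZMod (p ^ (N.natAbs + 1))))
  have hkill : ∀ y ∈ fpfIdeal H, φ y * e = 0 := by
    intro y hy
    induction hy using Submodule.span_induction with
    | mem y hy =>
      obtain ⟨g, r, x, z, hr, hg, rfl⟩ := hy
      rw [map_mul, map_mul, map_powSum, mul_assoc, mul_assoc, ← mul_assoc (powSum _ g r), he g r hr hg, mul_zero]
    | zero => rw [map_zero, zero_mul]
    | add a b _ _ ha hb => rw [map_add, add_mul, ha, hb, add_zero]
    | smul c a _ ha => rw [map_zsmul, smul_mul_assoc, ha, smul_zero]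
  have h1 := hkill _ hN
  rw [map_zsmul, map_one, smul_mul_assoc, one_mul] at h1
  have h2 : (N : ZMod (p ^ (N.natAbs + 1))) * e.coeff m = 0 := by
    have := congrArg (fun y : MonoidAlgebra (ZMod (p ^ (N.natAbs + 1))) H => y.coeff m) h1
    rw [zsmul_eq_mul, MonoidAlgebra.intCast_def, MonoidAlgebra.coeff_single_one_mul] at this
    simpa using this
  rw [hm.mul_left_eq_zero, ZMod.intCast_zmod_eq_zero_iff_dvd] at h2
  have h3 : p ^ (N.natAbs + 1) ∣ N.natAbs := Int.natCast_dvd.mp h2
  have h4 := Nat.le_of_dvd (Int.natAbs_pos.mpr hne) h3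
  have h5 := Nat.lt_pow_self (n := N.natAbs + 1) hp.one_lt
  omega

end Ideal

/-- A fixed-point-free module in a given characteristic prime to the order. -/
theorem exists_module_of_prime {H : Type} [Group H] [Finite H] (hH : HasFpf H) {ℓ : ℕ} (hℓ : ℓ.Prime)
    (hℓH : ¬ ℓ ∣ Nat.card H) :
    ∃ (W : Type) (_ : AddCommGroup W) (_ : Finite W) (_ : Nontrivial W) (σ : H →* AddMonoid.End W),
      (∀ w : W, ℓ • w = 0) ∧ ∀ h : H, h ≠ 1 → ∀ w : W, σ h w = w → w = 0 := by
  classical
  haveI : Fintype H := Fintype.ofFinite H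
  let Λ := MonoidAlgebra ℤ H
  let I : Submodule ℤ Λ := fpfIdeal H
  have hint : ∀ N : ℤ, N • (1 : Λ) ∈ I → N = 0 := fun N hN => eq_zero_of_smul_one_mem_fpfIdeal hH hN
  let J : Submodule ℤ Λ := I ⊔ Ideal.span {(ℓ : ℤ)} • ⊤
  have hfgT : Module.Finite ℤ Λ := by
    refine Module.Finite.of_surjective
      (Fintype.linearCombination ℤ (fun g : H => (MonoidAlgebra.single g (1 : ℤ) : Λ))) fun y => ?_
    induction y using MonoidAlgebra.induction_linear with
    | zero => exact ⟨0, map_zero _⟩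
    | single m c => exact ⟨Pi.single m c, by rw [Fintype.linearCombination_apply_single, MonoidAlgebra.smul_single, smul_eq_mul, mul_one]⟩
    | add a b ha hb =>
      obtain ⟨a', rfl⟩ := ha
      obtain ⟨b', rfl⟩ := hb
      exact ⟨a' + b', map_add _ a' b'⟩
  haveI := hfgT
  have hℓW : ∀ w : Λ ⧸ J, (ℓ : ℤ) • w = 0 := by
    intro w
    obtain ⟨x, rfl⟩ := J.mkQ_surjective w
    rw [← map_zsmul, Submodule.mkQ_apply, Submodule.Quotient.mk_eq_zero]
    exact Submodule.mem_sup_right (Submodule.smul_mem_smul (Ideal.mem_span_singleton_self _) Submodule.mem_top)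
  haveI : Finite (Λ ⧸ J) := Module.finite_of_fg_torsion _ fun w =>
    ⟨⟨(ℓ : ℤ), mem_nonZeroDivisors_of_ne_zero (Int.natCast_ne_zero.mpr hℓ.ne_zero)⟩, hℓW w⟩
  have hJne : J ≠ ⊤ := by
    intro hJ
    have hle : (⊤ : Submodule ℤ (Λ ⧸ I)) ≤ Ideal.span {(ℓ : ℤ)} • ⊤ := by
      have h1 : J.map I.mkQ ≤ Ideal.span {(ℓ : ℤ)} • (⊤ : Submodule ℤ (Λ ⧸ I)) := by
        rw [Submodule.map_sup, Submodule.map_smul'', I.mkQ_map_self, bot_sup_eq]
        exact Submodule.smul_mono le_rfl le_top
      rwa [hJ, Submodule.map_top, Submodule.range_mkQ] at h1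
    obtain ⟨N, hN, hNk⟩ := Submodule.exists_sub_one_mem_and_smul_eq_zero_of_fg_of_le_smul _ _
      (Module.Finite.fg_top (R := ℤ) (M := Λ ⧸ I)) hle
    have h2 := hNk (I.mkQ 1) Submodule.mem_top
    rw [← map_zsmul, Submodule.mkQ_apply, Submodule.Quotient.mk_eq_zero] at h2
    rw [hint N h2, zero_sub, Ideal.mem_span_singleton, dvd_neg] at hN
    exact hℓ.ne_one (by exact_mod_cast Int.eq_one_of_dvd_one (Int.natCast_nonneg ℓ) hN)
  haveI : Nontrivial (Λ ⧸ J) := Submodule.Quotient.nontrivial_iff.mpr hJne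
  -- the action
  have hIstab : ∀ (a : Λ), ∀ y ∈ I, a * y ∈ I := fun a y hy => mul_mem_fpfIdeal a hy
  have hJstab : ∀ a : Λ, J ≤ J.comap (LinearMap.mulLeft ℤ a) := fun a => by
    refine sup_le (fun y hy => Submodule.mem_sup_left (hIstab a y hy)) ?_
    rw [← Submodule.map_le_iff_le_comap, Submodule.map_smul'']
    exact (Submodule.smul_mono le_rfl le_top).trans le_sup_right
  let σ : H →* AddMonoid.End (Λ ⧸ J) :=
    { toFun := fun h => (J.mapQ J (LinearMap.mulLeft ℤ (MonoidAlgebra.single h (1 : ℤ))) (hJstab _)).toAddMonoidHom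
      map_one' := AddMonoidHom.ext fun w => by
        obtain ⟨x, rfl⟩ := J.mkQ_surjective w
        show J.mkQ (MonoidAlgebra.single (1 : H) (1 : ℤ) * x) = J.mkQ x
        rw [← MonoidAlgebra.one_def, one_mul]
      map_mul' := fun a b => AddMonoidHom.ext fun w => by
        obtain ⟨x, rfl⟩ := J.mkQ_surjective w
        show J.mkQ (MonoidAlgebra.single (a * b) (1 : ℤ) * x) =
          J.mkQ (MonoidAlgebra.single a (1 : ℤ) * (MonoidAlgebra.single b (1 : ℤ) * x))
        rw [← mul_assoc, MonoidAlgebra.single_mul_single, mul_one] }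
  refine ⟨Λ ⧸ J, inferInstance, inferInstance, inferInstance, σ, fun w => ?_, fun h hh w hw => ?_⟩
  · rw [← natCast_zsmul]; exact hℓW w
  · obtain ⟨r, hr, hrd⟩ := Nat.exists_prime_and_dvd (mt orderOf_eq_one_iff.mp hh)
    set g := h ^ (orderOf h / r) with hgd
    have hg : orderOf g = r := orderOf_pow_orderOf_div (orderOf_pos h).ne' hrd
    have hfix : σ g w = w := pow_fixed σ hw _
    obtain ⟨x, rfl⟩ := J.mkQ_surjective w
    have hsum : ∑ i ∈ Finset.range r, σ (g ^ i) (J.mkQ x) = J.mkQ (powSum ℤ g r * x) := by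
      rw [powSum, Finset.sum_mul, map_sum]
      exact Finset.sum_congr rfl fun i _ => rfl
    have h0 : J.mkQ (powSum ℤ g r * x) = 0 := by
      rw [Submodule.mkQ_apply, Submodule.Quotient.mk_eq_zero]
      exact Submodule.mem_sup_left (powSum_mul_mem_fpfIdeal hr hg x)
    rw [h0, Finset.sum_congr rfl fun i _ => pow_fixed σ hfix i, Finset.sum_const, Finset.card_range] at hsum
    have h1 : addOrderOf (J.mkQ x) ∣ r := addOrderOf_dvd_of_nsmul_eq_zero hsum
    have h2 : addOrderOf (J.mkQ x) ∣ ℓ := addOrderOf_dvd_of_nsmul_eq_zero (by rw [← natCast_zsmul]; exact hℓW _)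
    have hrℓ : r.Coprime ℓ := (Nat.coprime_primes hr hℓ).mpr fun e => hℓH (e ▸ hrd.trans (orderOf_dvd_natCard h))
    exact AddMonoid.addOrderOf_eq_one_iff.mp (Nat.eq_one_of_dvd_coprimes hrℓ h1 h2)

/-- Coprime direct products of Frobenius complements. -/
theorem hasFpf_prod {A B : Type} [Group A] [Finite A] [Group B] [Finite B] (hA : HasFpf A) (hB : HasFpf B)
    (hcop : (Nat.card A).Coprime (Nat.card B)) : HasFpf (A × B) := by
  classical
  obtain ⟨ℓ, hle, hℓ⟩ := Nat.exists_infinite_primes (Nat.card A * Nat.card B + 1)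
  have hA0 := Nat.card_pos (α := A)
  have hB0 := Nat.card_pos (α := B)
  have hnA : ¬ ℓ ∣ Nat.card A := fun h => by
    have := Nat.le_of_dvd hA0 h
    nlinarith
  have hnB : ¬ ℓ ∣ Nat.card B := fun h => by
    have := Nat.le_of_dvd hB0 h
    nlinarith
  obtain ⟨V, iV, fV, nV, α, hαℓ, hα⟩ := exists_module_of_prime hA hℓ hnA
  obtain ⟨W, iW, fW, nW, β, hβℓ, hβ⟩ := exists_module_of_prime hB hℓ hnB
  haveI := Fact.mk hℓ
  let ρ : A × B →* AddMonoid.End (V →+ W) :=
    { toFun := fun x => AddMonoidHom.mk' (fun f => (β x.2 : W →+ W).comp (f.comp (α x.1⁻¹ : V →+ V)))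
        (fun f g => AddMonoidHom.ext fun v => map_add (β x.2) _ _)
      map_one' := AddMonoidHom.ext fun f => AddMonoidHom.ext fun v => by
        show β 1 (f (α 1⁻¹ v)) = f v
        rw [inv_one, map_one, map_one]; rfl
      map_mul' := fun x y => AddMonoidHom.ext fun f => AddMonoidHom.ext fun v => by
        show β (x.2 * y.2) (f (α (x.1 * y.1)⁻¹ v)) = β x.2 (β y.2 (f (α y.1⁻¹ (α x.1⁻¹ v))))
        rw [mul_inv_rev, map_mul, map_mul]; rfl }
  haveI : Finite (V →+ W) := Finite.of_injective (fun f => (f : V → W)) DFunLike.coe_injective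
  haveI : Nontrivial (V →+ W) := by
    letI := AddCommGroup.zmodModule (n := ℓ) hαℓ
    letI := AddCommGroup.zmodModule (n := ℓ) hβℓ
    obtain ⟨v, hv⟩ := exists_ne (0 : V)
    obtain ⟨w, hw⟩ := exists_ne (0 : W)
    obtain ⟨f, hf⟩ := Module.Projective.exists_dual_ne_zero (ZMod ℓ) hv
    refine ⟨((LinearMap.toSpanSingleton (ZMod ℓ) W w).comp f).toAddMonoidHom, 0, fun h => ?_⟩
    have h1 : f v • w = 0 := DFunLike.congr_fun h v
    exact (smul_eq_zero.mp h1).elim hf hw
  refine ⟨V →+ W, inferInstance, inferInstance, inferInstance, ρ, fun x hx f hf => ?_⟩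
  have hleft : ∀ a : A, a ≠ 1 → ρ (a, 1) f = f → f = 0 := by
    intro a ha h
    let d : V →+ V := AddMonoidHom.mk' (fun v => α a⁻¹ v - v) (fun u v => by rw [map_add, add_sub_add_comm])
    have hd : Function.Surjective d := Finite.surjective_of_injective ((injective_iff_map_eq_zero d).mpr fun v hv =>
      hα a⁻¹ (inv_ne_one.mpr ha) v (sub_eq_zero.mp (hv : α a⁻¹ v - v = 0)))
    refine AddMonoidHom.ext fun v => ?_
    obtain ⟨u, rfl⟩ := hd v
    have h1 : β 1 (f (α a⁻¹ u)) = f u := DFunLike.congr_fun h u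
    rw [map_one] at h1
    show f (α a⁻¹ u - u) = 0
    rw [map_sub, sub_eq_zero]
    exact h1
  have hright : ∀ b : B, b ≠ 1 → ρ (1, b) f = f → f = 0 := by
    intro b hb h
    refine AddMonoidHom.ext fun v => hβ b hb _ ?_
    have h1 : β b (f (α 1⁻¹ v)) = f v := DFunLike.congr_fun h v
    rwa [inv_one, map_one] at h1
  have hpow := fun n => pow_fixed ρ hf n
  obtain ⟨a, b⟩ := x
  by_cases hb : b = 1
  · subst hb
    exact hleft a (fun h => hx (by rw [h]; rfl)) hf
  refine hright (b ^ Nat.card A) (fun h => hb ?_) (by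
    have := hpow (Nat.card A)
    rwa [Prod.pow_mk, pow_card_eq_one'] at this)
  exact orderOf_eq_one_iff.mp (Nat.eq_one_of_dvd_coprimes hcop (orderOf_dvd_of_pow_eq_one h) (orderOf_dvd_natCard b))

end CfsgLib.FrobCompl
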