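import Mathlib

/-!
# Anticommuting square roots of minus one on a finite abelian group of odd order
-/

set_option autoImplicit false
set_option linter.style.haveILetI false

namespace CfsgLib.FrobCompl

universe u

theorem isSquare_card_of_anticommuting_aux (n : ℕ) : ∀ {M : Type u} [AddCommGroup M] [Finite M],
    Nat.card M = n → Odd (Nat.card M) → ∀ i j : M →+ M, (∀ x, i (i x) = -x) → (∀ x, j (j x) = -x) →
    (∀ x, i (j x) = -j (i x)) → IsSquare (Nat.card M) := by
  induction n using Nat.strong_induction_on with
  | _ n IH =>
  intro M _ _ hn hodd i j hii hjj hij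
  rcases Nat.lt_or_ge 1 (Nat.card M) with h1 | h1
  · obtain ⟨p, hp, hpd⟩ := Nat.exists_prime_and_dvd (show Nat.card M ≠ 1 by omega)
    haveI : Fact p.Prime := ⟨hp⟩
    have hp2 : p ≠ 2 := by
      rintro rfl
      exact (Nat.not_even_iff_odd.mpr hodd) (even_iff_two_dvd.mpr hpd)
    set f : M →+ M := nsmulAddMonoidHom p with hf
    by_cases hker : f.ker = ⊤
    · -- an elementary abelian group: compare determinants
      have hsmul : ∀ x : M, p • x = 0 := fun x => by
        have : x ∈ f.ker := hker ▸ AddSubgroup.mem_top x
        exact this
      letI := AddCommGroup.zmodModule (n := p) hsmul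
      haveI : Module.Finite (ZMod p) M := Module.Finite.of_finite
      let I : M →ₗ[ZMod p] M :=
        { toFun := i, map_add' := map_add i, map_smul' := fun c x => ZMod.map_smul i c x }
      let J : M →ₗ[ZMod p] M :=
        { toFun := j, map_add' := map_add j, map_smul' := fun c x => ZMod.map_smul j c x }
      have e1 : I.comp I = (-1 : ZMod p) • LinearMap.id (R := ZMod p) (M := M) := by
        ext x; simpa [I] using hii x
      have e2 : J.comp J = (-1 : ZMod p) • LinearMap.id (R := ZMod p) (M := M) := by
        ext x; simpa [J] using hjj x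
      have e3 : I.comp J = (-1 : ZMod p) • (J.comp I) := by
        ext x; simpa [I, J] using hij x
      have d1 := congrArg LinearMap.det e1
      have d2 := congrArg LinearMap.det e2
      have d3 := congrArg LinearMap.det e3
      rw [LinearMap.det_comp, LinearMap.det_smul, LinearMap.det_id, mul_one] at d1 d2
      rw [LinearMap.det_comp, LinearMap.det_smul, LinearMap.det_comp, mul_comm (LinearMap.det J)] at d3
      have hne : LinearMap.det I * LinearMap.det J ≠ 0 := by
        refine mul_ne_zero (fun h => ?_) (fun h => ?_)
        · rw [h, zero_mul] at d1; exact pow_ne_zero _ (neg_ne_zero.mpr one_ne_zero) d1.symm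
        · rw [h, zero_mul] at d2; exact pow_ne_zero _ (neg_ne_zero.mpr one_ne_zero) d2.symm
      rcases Nat.even_or_odd (Module.finrank (ZMod p) M) with ⟨d, hd⟩ | hd
      · refine ⟨p ^ d, ?_⟩
        rw [Module.natCard_eq_pow_finrank (K := ZMod p), Nat.card_zmod, hd, pow_add]
      · exfalso
        rw [hd.neg_one_pow, neg_one_mul] at d3
        have h2 : (2 : ZMod p) * (LinearMap.det I * LinearMap.det J) = 0 := by
          rw [two_mul]
          nth_rewrite 1 [d3]
          exact neg_add_cancel _
        rcases mul_eq_zero.mp h2 with h | h
        · haveI : Fact (2 < p) := ⟨by have := hp.two_le; omega⟩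
          exact hp2 ((Nat.prime_dvd_prime_iff_eq hp Nat.prime_two).mp
            ((ZMod.natCast_eq_zero_iff 2 p).mp (by exact_mod_cast h)))
        · exact hne h
    · -- split along multiplication by `p`
      have hkernebot : f.ker ≠ ⊥ := by
        obtain ⟨x, hx⟩ := exists_prime_addOrderOf_dvd_card' p hpd
        intro h
        have : x ∈ f.ker := by
          show p • x = 0
          rw [← hx]; exact addOrderOf_nsmul_eq_zero x
        rw [h, AddSubgroup.mem_bot] at this
        exact hp.ne_one (by rw [← hx, this, addOrderOf_zero])
      have hcard : Nat.card M = Nat.card f.range * Nat.card f.ker := by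
        rw [AddSubgroup.card_eq_card_quotient_mul_card_addSubgroup f.ker,
          Nat.card_congr (QuotientAddGroup.quotientKerEquivRange f).toEquiv]
      have hki : ∀ k : M →+ M, ∀ x : M, x ∈ f.ker → k x ∈ f.ker := fun k x hx => by
        show p • k x = 0
        rw [← map_nsmul, show p • x = 0 from hx, map_zero]
      have hri : ∀ k : M →+ M, ∀ x : M, x ∈ f.range → k x ∈ f.range := by
        rintro k _ ⟨y, rfl⟩
        exact ⟨k y, (map_nsmul k p y).symm⟩
      have sub : ∀ S : AddSubgroup M, Nat.card S < n → (∀ k : M →+ M, ∀ x : M, x ∈ S → k x ∈ S) →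
          IsSquare (Nat.card S) := by
        intro S hS hinv
        refine IH _ hS rfl (Odd.of_dvd_nat hodd S.card_addSubgroup_dvd_card)
          ((i.comp S.subtype).codRestrict S fun x => hinv i x x.2)
          ((j.comp S.subtype).codRestrict S fun x => hinv j x x.2) ?_ ?_ ?_
        · exact fun x => Subtype.ext (hii x)
        · exact fun x => Subtype.ext (hjj x)
        · exact fun x => Subtype.ext (hij x)
      have hk1 : 1 < Nat.card f.ker := f.ker.one_lt_card_iff_ne_bot.mpr hkernebot
      have hkn : Nat.card f.ker < n := by
        rw [← hn]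
        exact lt_of_le_of_ne (Nat.le_of_dvd Nat.card_pos f.ker.card_addSubgroup_dvd_card)
          fun e => hker (AddSubgroup.eq_top_of_card_eq _ e)
      have hrn : Nat.card f.range < n := by
        rw [← hn, hcard]
        exact lt_mul_of_one_lt_right Nat.card_pos hk1
      rw [hcard]
      exact (sub _ hrn (hri ·)).mul (sub _ hkn (hki ·))
  · have : Nat.card M = 1 := by have := Nat.card_pos (α := M); omega
    exact ⟨1, by omega⟩

/-- Two anticommuting square roots of `-1` on an abelian group of odd order force square order. -/
theorem isSquare_card_of_anticommuting {M : Type u} [AddCommGroup M] [Finite M]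
    (hodd : Odd (Nat.card M)) (i j : M →+ M) (hii : ∀ x, i (i x) = -x) (hjj : ∀ x, j (j x) = -x)
    (hij : ∀ x, i (j x) = -j (i x)) : IsSquare (Nat.card M) :=
  isSquare_card_of_anticommuting_aux _ rfl hodd i j hii hjj hij

end CfsgLib.FrobCompl
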